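import Cfsg.Agent.Lib.PGOQuot.Split
import Cfsg.Agent.Lib.Descent.Frame

/-!
The parity of a similarity of the split form, in every characteristic: the rank of its lower left block.
-/

set_option autoImplicit false
set_option maxHeartbeats 400000

namespace CfsgLib.FieldAutPlus

open Matrix QuadraticMap Module Cfsg
open CfsgLib.OrthCrit (plusForm halfSpace IsMaxSing)
open CfsgLib.PGOQuot (simG simAut scal)

variable {F : Type*} [Field F] {m : ℕ}

/-- The rank does not change under a field homomorphism. -/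
theorem rank_map {K : Type*} [Field K] {n : Type} [Fintype n] [DecidableEq n] (f : K →+* F)
    (M : Matrix n n K) : (M.map f).rank = M.rank := by
  classical
  obtain ⟨L, L', D, hM⟩ := Matrix.Pivot.exists_list_transvec_mul_diagonal_mul_list_transvec M
  have hd : ∀ L : List (Matrix.TransvectionStruct n K),
      IsUnit ((L.map Matrix.TransvectionStruct.toMatrix).prod).det ∧
      IsUnit (((L.map Matrix.TransvectionStruct.toMatrix).prod).map f).det := fun L => by
    refine ⟨by rw [Matrix.TransvectionStruct.det_toMatrix_prod]; exact isUnit_one, ?_⟩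
    rw [← RingHom.mapMatrix_apply, ← RingHom.map_det, Matrix.TransvectionStruct.det_toMatrix_prod, map_one]
    exact isUnit_one
  rw [hM, Matrix.map_mul, Matrix.map_mul, Matrix.rank_mul_eq_left_of_isUnit_det _ _ (hd L').2,
    Matrix.rank_mul_eq_right_of_isUnit_det _ _ (hd L).2, Matrix.rank_mul_eq_left_of_isUnit_det _ _ (hd L').1,
    Matrix.rank_mul_eq_right_of_isUnit_det _ _ (hd L).1, Matrix.diagonal_map (map_zero f), Matrix.rank_diagonal,
    Matrix.rank_diagonal]
  exact Fintype.card_congr (Equiv.subtypeEquivRight fun i => _root_.map_ne_zero f)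

/-- The block sending the half space to its complement. -/
def lowerLeft (g : Matrix (Fin m ⊕ Fin m) (Fin m ⊕ Fin m) F) : Matrix (Fin m) (Fin m) F :=
  g.submatrix Sum.inr Sum.inl

theorem mulVec_half (g : Matrix (Fin m ⊕ Fin m) (Fin m ⊕ Fin m) F) (a : Fin m → F) (i : Fin m) :
    (g *ᵥ Sum.elim a 0) (Sum.inr i) = (lowerLeft g *ᵥ a) i := by
  simp [Matrix.mulVec, dotProduct, Fintype.sum_sum_type, lowerLeft]

theorem finrank_inf_map (g : GL (Fin m ⊕ Fin m) F) :
    finrank F ↥(halfSpace F m ⊓ (halfSpace F m).map (Matrix.mulVecLin (g : Matrix (Fin m ⊕ Fin m) (Fin m ⊕ Fin m) F))) +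
      (lowerLeft (g : Matrix (Fin m ⊕ Fin m) (Fin m ⊕ Fin m) F)).rank = m := by
  classical
  let E : (Fin m → F) →ₗ[F] (Fin m ⊕ Fin m → F) :=
    { toFun := fun a => Sum.elim a 0
      map_add' := fun a b => by funext k; rcases k with i | i <;> simp
      map_smul' := fun c a => by funext k; rcases k with i | i <;> simp }
  let L := (Matrix.mulVecLin (g : Matrix (Fin m ⊕ Fin m) (Fin m ⊕ Fin m) F)) ∘ₗ E
  have hL : Function.Injective L := fun a b hab => by
    have h := congrArg (fun x => ((g⁻¹ : GL (Fin m ⊕ Fin m) F) : Matrix (Fin m ⊕ Fin m) (Fin m ⊕ Fin m) F) *ᵥ x) hab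
    simp only [L, LinearMap.comp_apply, Matrix.mulVecLin_apply, Matrix.mulVec_mulVec, Units.inv_mul,
      Matrix.one_mulVec] at h
    funext i
    exact congrFun h (Sum.inl i)
  have hmem : ∀ x, x ∈ halfSpace F m ↔ ∀ i, x (Sum.inr i) = 0 := fun x =>
    ⟨fun h i => congrFun (show _ = _ from h) i, fun h => funext h⟩
  have heq : halfSpace F m ⊓ (halfSpace F m).map (Matrix.mulVecLin (g : Matrix (Fin m ⊕ Fin m) (Fin m ⊕ Fin m) F)) =
      (LinearMap.ker (lowerLeft (g : Matrix (Fin m ⊕ Fin m) (Fin m ⊕ Fin m) F)).mulVecLin).map L := by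
    ext x
    constructor
    · rintro ⟨hx, y, hy, rfl⟩
      have hy' : E (fun i => y (Sum.inl i)) = y := by
        funext k; rcases k with i | i
        · rfl
        · exact ((hmem y).mp hy i).symm
      refine ⟨fun i => y (Sum.inl i), funext fun i => ?_, by simp only [L, LinearMap.comp_apply, hy']⟩
      have h1 := (hmem _).mp hx i
      rw [Matrix.mulVecLin_apply, ← hy'] at h1
      exact (mulVec_half _ _ i).symm.trans h1
    · rintro ⟨a, ha, rfl⟩
      refine ⟨(hmem _).mpr fun i => ?_, E a, (hmem _).mpr fun i => rfl, rfl⟩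
      exact (mulVec_half _ a i).trans (congrFun ha i)
  rw [heq, ← (Submodule.equivMapOfInjective L hL _).finrank_eq, Matrix.rank, add_comm,
    LinearMap.finrank_range_add_finrank_ker, finrank_fintype_fun_eq_card, Fintype.card_fin]

/-- The parity as a number modulo two. -/
noncomputable def parNat (g : GL (Fin m ⊕ Fin m) F) : ZMod 2 :=
  ((lowerLeft (g : Matrix (Fin m ⊕ Fin m) (Fin m ⊕ Fin m) F)).rank : ZMod 2)

theorem parNat_eq (g : GL (Fin m ⊕ Fin m) F) : parNat g = (m : ZMod 2) +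
    (finrank F ↥(halfSpace F m ⊓ (halfSpace F m).map
      (Matrix.mulVecLin (g : Matrix (Fin m ⊕ Fin m) (Fin m ⊕ Fin m) F))) : ZMod 2) := by
  have h := congrArg (fun k : ℕ => (k : ZMod 2)) (finrank_inf_map g)
  push_cast at h
  rw [parNat]
  linear_combination h - (finrank F ↥(halfSpace F m ⊓ (halfSpace F m).map
    (Matrix.mulVecLin (g : Matrix (Fin m ⊕ Fin m) (Fin m ⊕ Fin m) F))) : ZMod 2) * CharTwo.two_eq_zero (R := ZMod 2)

theorem parNat_one : parNat (1 : GL (Fin m ⊕ Fin m) F) = 0 := by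
  have h : lowerLeft ((1 : GL (Fin m ⊕ Fin m) F) : Matrix (Fin m ⊕ Fin m) (Fin m ⊕ Fin m) F) = 0 := by
    ext i j; simp [lowerLeft]
  rw [parNat, h, Matrix.rank_zero, Nat.cast_zero]

theorem parNat_mul {g h : GL (Fin m ⊕ Fin m) F} (hg : g ∈ simG (plusForm m F)) (hh : h ∈ simG (plusForm m F)) :
    parNat (g * h) = parNat g + parNat h := by
  obtain ⟨c, hc⟩ := hg
  have hgh : g * h ∈ simG (plusForm m F) := mul_mem (show g ∈ simG (plusForm m F) from ⟨c, hc⟩) hh
  obtain ⟨d, hd⟩ := hgh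
  have h0 := CfsgLib.OrthGeom.isMaxSing_halfSpace (K := F) (m := m)
  have hnd := CfsgLib.OrthCrit.ndPolar_plusForm (F := F) m
  have e := CfsgLib.OrthGeom.parity_triple hnd CfsgLib.OrthGeom.finrank_plus_space
    (CfsgLib.PGOQuot.isMaxSing_image hc h0) (CfsgLib.PGOQuot.isMaxSing_image hd h0) h0
  have hinj : Function.Injective (Matrix.mulVecLin (g : Matrix (Fin m ⊕ Fin m) (Fin m ⊕ Fin m) F)) := fun x y hxy => by
    have h := congrArg (fun a => ((g⁻¹ : GL (Fin m ⊕ Fin m) F) : Matrix (Fin m ⊕ Fin m) (Fin m ⊕ Fin m) F) *ᵥ a) hxy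
    simpa [Matrix.mulVec_mulVec, ← Units.val_mul] using h
  rw [Units.val_mul, Matrix.mulVecLin_mul, Submodule.map_comp, ← Submodule.map_inf _ hinj,
    ← (Submodule.equivMapOfInjective _ hinj _).finrank_eq, ← Submodule.map_comp, ← Matrix.mulVecLin_mul,
    ← Units.val_mul] at e
  rw [parNat_eq, parNat_eq, parNat_eq]
  linear_combination e - ((finrank F ↥(halfSpace F m ⊓ (halfSpace F m).map
      (Matrix.mulVecLin (g : Matrix (Fin m ⊕ Fin m) (Fin m ⊕ Fin m) F))) : ZMod 2) +
    (finrank F ↥(halfSpace F m ⊓ (halfSpace F m).map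
      (Matrix.mulVecLin (h : Matrix (Fin m ⊕ Fin m) (Fin m ⊕ Fin m) F))) : ZMod 2) + m) *
        CharTwo.two_eq_zero (R := ZMod 2)

/-- The parity of a similarity. -/
noncomputable def par : ↥(simG (plusForm m F)) →* Multiplicative (ZMod 2) where
  toFun g := Multiplicative.ofAdd (parNat (g : GL (Fin m ⊕ Fin m) F))
  map_one' := by rw [OneMemClass.coe_one, parNat_one, ofAdd_zero]
  map_mul' g h := by rw [Subgroup.coe_mul, parNat_mul g.2 h.2, ofAdd_add]

theorem par_apply (g : ↥(simG (plusForm m F))) :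
    par g = Multiplicative.ofAdd (parNat (g : GL (Fin m ⊕ Fin m) F)) := rfl

theorem preserves_iff_par (g : ↥(simG (plusForm m F))) :
    PreservesSingularClasses (Cfsg.quadFormPlus m F)
      ((g : GL (Fin m ⊕ Fin m) F) : Matrix (Fin m ⊕ Fin m) (Fin m ⊕ Fin m) F) ↔ par g = 1 := by
  obtain ⟨c, hc⟩ := g.2
  refine (CfsgLib.PGOQuot.preserves_iff (Q := plusForm m F) (n := m) (CfsgLib.OrthCrit.ndPolar_plusForm m)
    (by simp; omega) hc CfsgLib.OrthGeom.isMaxSing_halfSpace).trans ?_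
  have h := finrank_inf_map (g : GL (Fin m ⊕ Fin m) F)
  rw [par_apply, ofAdd_eq_one, parNat, ZMod.natCast_eq_zero_iff_even]
  constructor <;> intro h' <;> convert h' using 1 <;> omega

/-- The similarities preserving the two classes. -/
noncomputable abbrev K0 (m : ℕ) (F : Type*) [Field F] : Subgroup ↥(simG (plusForm m F)) := (par (F := F) (m := m)).ker

theorem mem_K0 {g : ↥(simG (plusForm m F))} : g ∈ K0 m F ↔ par g = 1 := MonoidHom.mem_ker

theorem inndiag_iff (β : MulAut (POmega F (Cfsg.quadFormPlus m F))) :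
    IsInnerDiagonalAutPOmegaPlus m β ↔ ∃ g ∈ K0 m F,
      IsInducedBySemilinearPOmega (⇑(plusForm m F)) ((g : ↥(simG (plusForm m F))) : GL (Fin m ⊕ Fin m) F)
        (RingEquiv.refl F) β := by
  constructor
  · intro h
    obtain ⟨g, hg, hp, h⟩ := h
    refine ⟨⟨g, hg⟩, ?_, h⟩
    exact mem_K0.mpr ((preserves_iff_par (⟨g, hg⟩ : ↥(simG (plusForm m F)))).mp hp)
  · intro h
    obtain ⟨g, hg, h⟩ := h
    exact ⟨g, g.2, (preserves_iff_par g).mpr (mem_K0.mp hg), h⟩

theorem inndiag_eq : inndiagPOmegaPlus m F = (K0 m F).map simAut := by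
  have h := CfsgLib.PGOQuot.autSubgroupOf_eq (Q := plusForm m F)
    (fun β => IsInnerDiagonalAutPOmegaPlus m β) (K0 m F) inndiag_iff
  exact h

theorem parNat_map {K : Type*} [Field K] (f : K →+* F) (g : GL (Fin m ⊕ Fin m) K) :
    parNat (Matrix.GeneralLinearGroup.map f g) = parNat g := by
  have h1 : ((Matrix.GeneralLinearGroup.map f g : GL (Fin m ⊕ Fin m) F) : Matrix (Fin m ⊕ Fin m) (Fin m ⊕ Fin m) F) =
      (g : Matrix (Fin m ⊕ Fin m) (Fin m ⊕ Fin m) K).map f := rfl
  have h2 : lowerLeft ((g : Matrix (Fin m ⊕ Fin m) (Fin m ⊕ Fin m) K).map f) =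
      (lowerLeft (g : Matrix (Fin m ⊕ Fin m) (Fin m ⊕ Fin m) K)).map f := by
    ext i j; simp [lowerLeft]
  rw [parNat, parNat, h1, h2, rank_map]

theorem parNat_scal (c : Fˣ) : parNat (scal c : GL (Fin m ⊕ Fin m) F) = 0 := by
  have h : lowerLeft ((scal c : GL (Fin m ⊕ Fin m) F) : Matrix (Fin m ⊕ Fin m) (Fin m ⊕ Fin m) F) = 0 := by
    ext i j; simp [lowerLeft, scal]
  rw [parNat, h, Matrix.rank_zero, Nat.cast_zero]

theorem par_scal (c : Fˣ) (hc : scal c ∈ simG (plusForm m F)) : par ⟨scal c, hc⟩ = 1 := by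
  rw [par_apply, parNat_scal, ofAdd_zero]

/-- A reflection interchanges the two classes. -/
theorem parNat_reflection {v : Fin m ⊕ Fin m → F} (hv : Cfsg.quadFormPlus m F v ≠ 0)
    {r : GL (Fin m ⊕ Fin m) F}
    (hr : (r : Matrix (Fin m ⊕ Fin m) (Fin m ⊕ Fin m) F) = reflectionMatrix (Cfsg.quadFormPlus m F) v) :
    parNat r = 1 := by
  classical
  set w : Fin m → F := fun i => v (Sum.inr i) with hw
  obtain ⟨i₀, hi₀⟩ : ∃ i, w i ≠ 0 := by
    by_contra! h
    exact hv (Finset.sum_eq_zero fun i _ => by rw [show v (Sum.inr i) = 0 from h i, mul_zero])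
  set a : F := -(Cfsg.quadFormPlus m F v)⁻¹ with ha
  have hC : lowerLeft (r : Matrix (Fin m ⊕ Fin m) (Fin m ⊕ Fin m) F) = Matrix.vecMulVec (a • w) w := by
    ext i j
    have hp : polarVec (Cfsg.quadFormPlus m F) v (Sum.inl j) = w j := by
      show polar (Cfsg.quadFormPlus m F) v (Pi.single (Sum.inl j) 1) = _
      rw [← show ⇑(plusForm m F) = Cfsg.quadFormPlus m F from rfl, CfsgLib.OrthCrit.polar_plusForm]
      simp [Pi.single_apply, hw]
    simp [lowerLeft, hr, reflectionMatrix, Matrix.vecMulVec_apply, ha, hp]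
    ring
  have h1 : (lowerLeft (r : Matrix (Fin m ⊕ Fin m) (Fin m ⊕ Fin m) F)).rank = 1 := by
    rw [hC]
    refine le_antisymm (Matrix.rank_vecMulVec_le _ _) (Nat.one_le_iff_ne_zero.mpr fun h0 => ?_)
    have h2 : (Matrix.vecMulVec (a • w) w).mulVecLin = 0 :=
      LinearMap.range_eq_bot.mp (Submodule.finrank_eq_zero.mp h0)
    have h3 := congrFun (congrArg (fun f : (Fin m → F) →ₗ[F] (Fin m → F) => f (Pi.single i₀ 1)) h2) i₀
    simp [Matrix.vecMulVec_apply, ha, inv_eq_zero, hv, hi₀] at h3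
  rw [parNat, h1, Nat.cast_one]

end CfsgLib.FieldAutPlus
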