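import Cfsg.Agent.Lib.FieldAutPlus.Kernel
import Cfsg.Agent.Lib.FieldAutPlus.Parity
import Cfsg.Agent.Lib.Orth.Spinor

/-!
Field automorphisms of the split form: faithfulness, invariance of the parity, fixed reflections.
-/

set_option autoImplicit false
set_option linter.style.haveILetI false
set_option linter.unusedSectionVars false
set_option maxHeartbeats 400000

namespace CfsgLib.FieldAutPlus

open Matrix QuadraticMap Module Cfsg
open CfsgLib.OrthCrit (plusForm)
open CfsgLib.PGOQuot (simG simAut scal)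
open CfsgLib.Descent (invAut fieldAut simMap Invariant)

variable {F : Type*} [Field F] {m : ℕ}

theorem invAut_eq_top : invAut (plusForm m F) = ⊤ := by
  refine eq_top_iff.mpr fun σ _ v => ?_
  show Cfsg.quadFormPlus m F (fun i => σ (v i)) = σ (Cfsg.quadFormPlus m F v)
  simp [Cfsg.quadFormPlus, map_sum]

/-- Every field automorphism, as one fixing the split form. -/
def toInv (σ : F ≃+* F) : ↥(invAut (plusForm m F)) :=
  ⟨σ, by rw [invAut_eq_top]; exact Subgroup.mem_top σ⟩

theorem semilinear_one [Fintype F] (hm : 3 ≤ m) {g : ↥(simG (plusForm m F))} {σ : ↥(invAut (plusForm m F))}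
    (h : (simAut g * fieldAut σ : MulAut (POmega F ⇑(plusForm m F))) = 1) :
    σ = 1 ∧ ∃ c : Fˣ, (g : GL (Fin m ⊕ Fin m) F) = scal c :=
  semilinear_eq_one (CfsgLib.Classical.Quad.plusEquiv m F) (CfsgLib.Classical.Quad.plusEquiv_spec m)
    CfsgLib.Classical.Quad.ndPolar_zeroKernel hm h

theorem simAut_ker [Fintype F] (hm : 3 ≤ m) (g : ↥(simG (plusForm m F))) (h : simAut g = 1) :
    ∃ c : Fˣ, (g : GL (Fin m ⊕ Fin m) F) = scal c := by
  exact (semilinear_one hm (g := g) (σ := 1) (by rw [h, map_one, mul_one])).2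

theorem fieldAut_inj [Fintype F] (hm : 3 ≤ m) :
    Function.Injective (fieldAut : ↥(invAut (plusForm m F)) →* MulAut (POmega F ⇑(plusForm m F))) := by
  rw [injective_iff_map_eq_one]
  intro σ hσ
  exact (semilinear_one hm (g := 1) (σ := σ) (by rw [hσ, map_one, mul_one])).1

theorem par_eq_par {g h : ↥(simG (plusForm m F))} (c : Fˣ)
    (e : (g : GL (Fin m ⊕ Fin m) F) = scal c * (h : GL (Fin m ⊕ Fin m) F)) : par g = par h := by
  have h1 : g = ⟨scal c, CfsgLib.PGOQuot.scal_mem_simG c⟩ * h := Subtype.ext e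
  rw [h1, map_mul, par_scal, one_mul]

theorem par_simMap (σ : ↥(invAut (plusForm m F))) (g : ↥(simG (plusForm m F))) :
    par (simMap σ g) = par g := by
  rw [par_apply, par_apply, CfsgLib.Descent.simMap_coe]
  exact congrArg _ (parNat_map (σ : F ≃+* F).toRingHom _)

theorem par_cases (g : ↥(simG (plusForm m F))) : par g = 1 ∨ par g = Multiplicative.ofAdd 1 := by
  have h : ∀ z : Multiplicative (ZMod 2), z = 1 ∨ z = Multiplicative.ofAdd 1 := by decide
  exact h _

/-- The reflection in a non-singular vector. -/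
noncomputable def refl {v : Fin m ⊕ Fin m → F} (hv : Cfsg.quadFormPlus m F v ≠ 0) : ↥(simG (plusForm m F)) :=
  ⟨((CfsgLib.OrthSpinor.reflection (Q := plusForm m F) hv : ↥(isometryGroup F ⇑(plusForm m F))) :
    GL (Fin m ⊕ Fin m) F), CfsgLib.PGOQuot.iso_le_sim
      (CfsgLib.OrthSpinor.reflection (Q := plusForm m F) hv).2⟩

theorem refl_coe {v : Fin m ⊕ Fin m → F} (hv : Cfsg.quadFormPlus m F v ≠ 0) :
    (((refl hv : ↥(simG (plusForm m F))) : GL (Fin m ⊕ Fin m) F) : Matrix (Fin m ⊕ Fin m) (Fin m ⊕ Fin m) F) =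
      reflectionMatrix (Cfsg.quadFormPlus m F) v := rfl

theorem refl_sq {v : Fin m ⊕ Fin m → F} (hv : Cfsg.quadFormPlus m F v ≠ 0) : refl hv * refl hv = 1 :=
  Subtype.ext (Units.ext (CfsgLib.OrthSpinor.reflectionMatrix_sq (Q := plusForm m F) hv))

theorem par_refl {v : Fin m ⊕ Fin m → F} (hv : Cfsg.quadFormPlus m F v ≠ 0) :
    par (refl hv) = Multiplicative.ofAdd 1 := by
  rw [par_apply, parNat_reflection hv (refl_coe hv)]

theorem simMap_refl (σ : ↥(invAut (plusForm m F))) {v : Fin m ⊕ Fin m → F}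
    (hv : Cfsg.quadFormPlus m F v ≠ 0) (hfix : ∀ i, (σ : F ≃+* F) (v i) = v i) :
    simMap σ (refl hv) = refl hv := by
  have hQ : ∀ w : Fin m ⊕ Fin m → F, (σ : F ≃+* F) (plusForm m F w) =
      plusForm m F (fun i => (σ : F ≃+* F) (w i)) := fun w => (σ.2 w).symm
  refine Subtype.ext (Units.ext (Matrix.ext fun i j => ?_))
  have hs : (fun k => (σ : F ≃+* F) ((Pi.single j (1 : F) : Fin m ⊕ Fin m → F) k)) = Pi.single j 1 := by
    funext k; by_cases hk : k = j
    · subst hk; simp
    · simp [hk]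
  have hadd : (fun k => (σ : F ≃+* F) ((v + (Pi.single j (1 : F) : Fin m ⊕ Fin m → F)) k)) =
      v + Pi.single j 1 := by
    funext k
    simp only [Pi.add_apply, map_add, hfix]
    exact congrArg _ (congrFun hs k)
  have hpol : (σ : F ≃+* F) (polarVec (⇑(plusForm m F)) v j) = polarVec (⇑(plusForm m F)) v j := by
    simp only [polarVec, polar, map_sub, hQ, hadd, hs, funext hfix]
  have hq : (σ : F ≃+* F) (plusForm m F v) = plusForm m F v := by rw [hQ, funext hfix]
  show (σ : F ≃+* F) (reflectionMatrix (⇑(plusForm m F)) v i j) = reflectionMatrix (⇑(plusForm m F)) v i j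
  simp only [reflectionMatrix, Matrix.sub_apply, Matrix.smul_apply, Matrix.vecMulVec_apply, smul_eq_mul,
    map_sub, map_mul, map_inv₀, hq, hpol, hfix, Matrix.one_apply, apply_ite ((σ : F ≃+* F)), map_one, map_zero]

end CfsgLib.FieldAutPlus
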