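import Cfsg.Agent.Lib.FieldAutPlus.Basic
import Cfsg.Agent.Lib.RootCount.Orth

/-!
Two elements of order `r` in the coset of a field automorphism of the split form with equal parity are
conjugate by a similarity of parity zero.
-/

set_option autoImplicit false
set_option linter.style.haveILetI false
set_option linter.unusedSectionVars false
set_option maxHeartbeats 400000

namespace CfsgLib.FieldAutPlus

open Matrix QuadraticMap Module Cfsg
open CfsgLib.AutPSL (fixedField mem_fixedField)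
open CfsgLib.Classical.Quad (NDPolar)
open CfsgLib.OrthCrit (plusForm minusForm)
open CfsgLib.PGOQuot (simG simAut scal)
open CfsgLib.Descent (invAut fieldAut simMap liftVec mapGL coset_frame mulVec_eq_of_base quad_ext_base)
open CfsgLib.RootCount (Aniso IsPlus)

section General

variable {F : Type*} [Field F] {ι : Type} [Fintype ι] [DecidableEq ι] {Q : QuadraticForm F (ι → F)}

variable [Fintype F]

/-- Frames with similar forms give conjugate semilinear maps. -/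
theorem conj_of_frames {σ : ↥(invAut Q)} {g₁ g₂ : ↥(simG Q)} {x₁ x₂ : Fˣ} {H₁ H₂ : GL ι F} {η₁ η₂ : Fˣ}
    {Q₁ Q₂ : QuadraticForm ↥(fixedField (σ : F ≃+* F)) (ι → ↥(fixedField (σ : F ≃+* F)))}
    (hH₁ : scal x₁ * (g₁ : GL ι F) * mapGL (σ : F ≃+* F) H₁ = H₁)
    (hQ₁ : ∀ a, Q ((H₁ : Matrix ι ι F) *ᵥ liftVec (fixedField (σ : F ≃+* F)).subtype a) = (η₁ : F) * (Q₁ a : F))
    (hH₂ : scal x₂ * (g₂ : GL ι F) * mapGL (σ : F ≃+* F) H₂ = H₂)
    (hQ₂ : ∀ a, Q ((H₂ : Matrix ι ι F) *ᵥ liftVec (fixedField (σ : F ≃+* F)).subtype a) = (η₂ : F) * (Q₂ a : F))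
    (P : GL ι ↥(fixedField (σ : F ≃+* F)))
    (hP : ∀ a, Q₁ ((P : Matrix ι ι ↥(fixedField (σ : F ≃+* F))) *ᵥ a) = Q₂ a) :
    ∃ h : ↥(simG Q), (simAut g₁ * fieldAut σ : MulAut (POmega F ⇑Q)) =
      simAut h * (simAut g₂ * fieldAut σ) * (simAut h)⁻¹ := by
  set f := (fixedField (σ : F ≃+* F)).subtype with hf
  set P' : GL ι F := Matrix.GeneralLinearGroup.map f P with hP'
  set h : GL ι F := H₁ * P' * H₂⁻¹ with hh
  have hfix : mapGL (σ : F ≃+* F) P' = P' := by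
    refine Units.ext (Matrix.ext fun i j => ?_)
    exact (mem_fixedField (σ : F ≃+* F)).mp ((P : Matrix ι ι ↥(fixedField (σ : F ≃+* F))) i j).2
  have hbase : ∀ v, Q ((h * H₂ : GL ι F).1 *ᵥ v) = ((η₁ * η₂⁻¹ : Fˣ) : F) * Q ((H₂ : Matrix ι ι F) *ᵥ v) := by
    intro v
    have h2 : Q.comp (Matrix.mulVecLin ((h * H₂ : GL ι F) : Matrix ι ι F)) =
        ((η₁ * η₂⁻¹ : Fˣ) : F) • Q.comp (Matrix.mulVecLin (H₂ : Matrix ι ι F)) := quad_ext_base f fun a => by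
      simp only [QuadraticMap.comp_apply, Matrix.mulVecLin_apply, QuadraticMap.smul_apply, smul_eq_mul]
      rw [hh, inv_mul_cancel_right, Units.val_mul, ← Matrix.mulVec_mulVec]
      show Q ((H₁ : Matrix ι ι F) *ᵥ ((P : Matrix ι ι ↥(fixedField (σ : F ≃+* F))).map f *ᵥ _)) = _
      rw [CfsgLib.Descent.mulVec_liftVec, hQ₁, hP, hQ₂, Units.val_mul, mul_assoc]
      simp
    simpa using congrArg (fun q : QuadraticForm F (ι → F) => q v) h2
  have hsim : h ∈ simG Q := ⟨η₁ * η₂⁻¹, fun v => by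
    have h1 := hbase (((H₂⁻¹ : GL ι F) : Matrix ι ι F) *ᵥ v)
    rwa [Matrix.mulVec_mulVec, Matrix.mulVec_mulVec, ← Units.val_mul, mul_inv_cancel_right,
      Units.mul_inv, Matrix.one_mulVec] at h1⟩
  refine ⟨⟨h, hsim⟩, ?_⟩
  set h' : ↥(simG Q) := ⟨h, hsim⟩
  let c : ↥(simG Q) := ⟨scal (x₁⁻¹ * x₂), CfsgLib.PGOQuot.scal_mem_simG _⟩
  have hrel : g₁ * simMap σ h' = c * (h' * g₂) := by
    refine Subtype.ext ?_
    show (g₁ : GL ι F) * mapGL (σ : F ≃+* F) h = scal (x₁⁻¹ * x₂) * (h * (g₂ : GL ι F))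
    rw [hh, map_mul, map_mul, hfix, map_inv]
    have e1 : (g₁ : GL ι F) * mapGL (σ : F ≃+* F) H₁ = scal x₁⁻¹ * H₁ := by
      rw [map_inv, eq_inv_mul_iff_mul_eq, ← mul_assoc, hH₁]
    have e2 : (mapGL (σ : F ≃+* F) H₂)⁻¹ = H₂⁻¹ * (scal x₂ * (g₂ : GL ι F)) := by
      rw [eq_inv_mul_iff_mul_eq, mul_inv_eq_iff_eq_mul, hH₂]
    calc (g₁ : GL ι F) * (mapGL (σ : F ≃+* F) H₁ * P' * (mapGL (σ : F ≃+* F) H₂)⁻¹)
        = scal x₁⁻¹ * (H₁ * P' * H₂⁻¹ * scal x₂) * (g₂ : GL ι F) := by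
          rw [← mul_assoc, ← mul_assoc, e1, e2]; group
      _ = _ := by
          rw [← CfsgLib.PGOQuot.scal_comm, map_mul]; group
  have hs := congrArg (simAut (Q := Q)) hrel
  rw [map_mul, map_mul, map_mul, CfsgLib.Descent.simAut_scal, one_mul] at hs
  have hd : (simAut g₁ : MulAut (POmega F ⇑Q)) = simAut h' * simAut g₂ * (simAut (simMap σ h'))⁻¹ := by
    rw [← hs, mul_inv_cancel_right]
  rw [hd, ← map_inv, ← map_inv (simMap σ), mul_assoc, ← CfsgLib.Descent.fieldAut_simAut, map_inv]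
  group

end General

variable {F : Type*} [Field F] [Fintype F] {m : ℕ}

/-- An automorphism fixing the coefficients fixes the roots of a quadratic, if its order is odd. -/
theorem aniso_of_odd {σ : F ≃+* F} (hodd : Odd (orderOf σ)) {a c : ↥(fixedField σ)} (hac : Aniso a c) :
    Aniso (a : F) (c : F) := by
  intro z₁ z₂ hz
  by_cases h2 : z₂ = 0
  · subst h2
    exact ⟨pow_eq_zero_iff two_ne_zero |>.1 (by linear_combination hz), rfl⟩
  exfalso
  set t : F := -(z₁ / z₂) with ht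
  have hroot : ∀ {s : F}, s ^ 2 - (a : F) * s + c = 0 → s = t ∨ s = (a : F) - t := fun {s} hs => by
    have h0 : t ^ 2 - (a : F) * t + c = 0 := by
      rw [ht]; field_simp; linear_combination hz
    have : (s - t) * (s - ((a : F) - t)) = 0 := by linear_combination hs - h0
    rcases mul_eq_zero.mp this with h | h
    · exact Or.inl (sub_eq_zero.mp h)
    · exact Or.inr (sub_eq_zero.mp h)
  have h0 : t ^ 2 - (a : F) * t + c = 0 := by rw [ht]; field_simp; linear_combination hz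
  have ha : σ (a : F) = a := (mem_fixedField σ).mp a.2
  have hc : σ (c : F) = c := (mem_fixedField σ).mp c.2
  have hσt : σ ((σ t)) = t := by
    have h1 : (σ t) ^ 2 - (a : F) * σ t + c = 0 := by
      have := congrArg σ h0
      rwa [map_add, map_sub, map_pow, map_mul, ha, hc, map_zero] at this
    rcases hroot h1 with h | h
    · rw [h, h]
    · rw [h, map_sub, ha, h, sub_sub_cancel]
  obtain ⟨k, hk⟩ := hodd
  have hfix : σ t = t := by
    have h2 : ∀ j : ℕ, (σ ^ (2 * j)) t = t := fun j => by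
      induction j with
      | zero => rfl
      | succ j ih =>
        rw [show 2 * (j + 1) = 2 * j + 2 by ring, pow_add]
        show (σ ^ (2 * j)) ((σ ^ 2) t) = t
        rw [show (σ ^ 2) t = σ (σ t) from rfl, hσt, ih]
    have h3 : (σ ^ (2 * k + 1)) t = σ t := by
      rw [pow_succ']
      show σ ((σ ^ (2 * k)) t) = σ t
      rw [h2]
    rw [← hk, pow_orderOf_eq_one] at h3
    exact h3.symm
  exact (hac.no_root (⟨t, (mem_fixedField σ).mpr hfix⟩ : ↥(fixedField σ))) (Subtype.ext (by push_cast; exact h0))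

/-- A coset element of odd order `r` has a descended form of plus type. -/
theorem isPlus_of_odd {σ : F ≃+* F} (hodd : Odd (orderOf σ)) (hm : 1 ≤ m) (H : GL (Fin m ⊕ Fin m) F) (η : Fˣ)
    (Q₀ : QuadraticForm ↥(fixedField σ) (Fin m ⊕ Fin m → ↥(fixedField σ))) (hnd : NDPolar Q₀)
    (hQ : ∀ a, plusForm m F ((H : Matrix (Fin m ⊕ Fin m) (Fin m ⊕ Fin m) F) *ᵥ liftVec (fixedField σ).subtype a) =
      (η : F) * (Q₀ a : F)) : IsPlus Q₀ := by
  classical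
  letI : Fintype ↥(fixedField σ) := Fintype.ofFinite _
  obtain ⟨a, c, hac⟩ := CfsgLib.RootCount.exists_aniso (F := ↥(fixedField σ))
  rcases CfsgLib.RootCount.classify_even Q₀ hnd (m := m) (by simp; omega) hac with h | ⟨-, k, hk, E, hE⟩
  · exact h.1
  exfalso
  set f := (fixedField σ).subtype with hf
  let R : QuadraticForm F (Fin m ⊕ Fin m → F) :=
    ((η⁻¹ : Fˣ) : F) • (plusForm m F).comp (Matrix.mulVecLin (H : Matrix (Fin m ⊕ Fin m) (Fin m ⊕ Fin m) F))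
  have hR : ∀ b, R (liftVec f b) = (Q₀ b : F) := fun b => by
    simp only [R, QuadraticMap.smul_apply, QuadraticMap.comp_apply, Matrix.mulVecLin_apply, smul_eq_mul]
    rw [hQ, Units.inv_mul_cancel_left]
  let L : ((Fin k ⊕ Fin k) ⊕ Fin 2 → F) →ₗ[F] (Fin m ⊕ Fin m → F) :=
    Fintype.linearCombination F fun j => liftVec f (E (Pi.single j 1))
  have hL : ∀ b, L (liftVec f b) = liftVec f (E b) := fun b => by
    conv_rhs => rw [pi_eq_sum_univ' b]
    simp only [L, Fintype.linearCombination_apply, map_sum, map_smul]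
    funext i
    simp [liftVec, Finset.sum_apply]
  have heq : R.comp L = minusForm k F (a : F) (c : F) := quad_ext_base f fun b => by
    rw [QuadraticMap.comp_apply, hL, hR, hE]
    simp [CfsgLib.OrthCrit.minusForm, Cfsg.quadFormMinus, liftVec, hf]
  have hac' := aniso_of_odd hodd hac
  have hinj : Function.Injective L := (injective_iff_map_eq_zero _).mpr fun v hv => by
    refine CfsgLib.OrthCrit.ndPolar_minusForm k (a : F) (c : F) hac'
      (CfsgLib.OrthCrit.a_ne_zero_of_anisotropic hac') v fun w => ?_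
    rw [← heq]
    simp [polar, hv]
  let E' : ((Fin k ⊕ Fin k) ⊕ Fin 2 → F) ≃ₗ[F] (Fin m ⊕ Fin m → F) :=
    LinearMap.linearEquivOfInjective L hinj (by simp; omega)
  obtain ⟨U, hU, hUd⟩ : IsPlus R := by
    obtain ⟨U, hU, hUd⟩ : IsPlus (plusForm m F) := ⟨_, CfsgLib.OrthCrit.halfSpace_singular, by
      rw [CfsgLib.OrthCrit.finrank_halfSpace, CfsgLib.OrthGeom.finrank_plus_space]⟩
    let eH : (Fin m ⊕ Fin m → F) ≃ₗ[F] (Fin m ⊕ Fin m → F) :=
      LinearMap.GeneralLinearGroup.toLinearEquiv (Matrix.GeneralLinearGroup.toLin H⁻¹)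
    refine ⟨U.map eH.toLinearMap, ?_, by rw [LinearEquiv.finrank_map_eq, hUd]⟩
    rintro _ ⟨x, hx, rfl⟩
    show R (((H⁻¹ : GL (Fin m ⊕ Fin m) F) : Matrix (Fin m ⊕ Fin m) (Fin m ⊕ Fin m) F) *ᵥ x) = 0
    simp [R, Matrix.mulVec_mulVec, hU x hx]
  refine CfsgLib.RootCount.not_isPlus_minus hac' k
    (CfsgLib.RootCount.isPlus_congr R (minusForm k F (a : F) (c : F)) E'.symm (fun x => ?_) ⟨U, hU, hUd⟩)
  rw [← heq, QuadraticMap.comp_apply]
  exact congrArg R (E'.apply_symm_apply x)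

/-- Forms of the same type are equivalent. -/
theorem exists_equiv_of_isPlus_iff {σ : F ≃+* F}
    (Q₁ Q₂ : QuadraticForm ↥(fixedField σ) (Fin m ⊕ Fin m → ↥(fixedField σ))) (h₁ : NDPolar Q₁) (h₂ : NDPolar Q₂)
    (h : IsPlus Q₁ ↔ IsPlus Q₂) :
    ∃ P : GL (Fin m ⊕ Fin m) ↥(fixedField σ),
      ∀ a, Q₁ ((P : Matrix (Fin m ⊕ Fin m) (Fin m ⊕ Fin m) ↥(fixedField σ)) *ᵥ a) = Q₂ a := by
  classical
  letI : Fintype ↥(fixedField σ) := Fintype.ofFinite _
  obtain ⟨a, c, hac⟩ := CfsgLib.RootCount.exists_aniso (F := ↥(fixedField σ))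
  obtain ⟨E, hE⟩ : ∃ E : (Fin m ⊕ Fin m → ↥(fixedField σ)) ≃ₗ[↥(fixedField σ)] (Fin m ⊕ Fin m → ↥(fixedField σ)),
      ∀ v, Q₁ (E v) = Q₂ v := by
    rcases CfsgLib.RootCount.classify_even Q₁ h₁ (m := m) (by simp; omega) hac with ⟨p₁, E₁, hE₁⟩ | ⟨p₁, k, hk, E₁, hE₁⟩ <;>
      rcases CfsgLib.RootCount.classify_even Q₂ h₂ (m := m) (by simp; omega) hac with ⟨p₂, E₂, hE₂⟩ | ⟨p₂, l, hl, E₂, hE₂⟩
    · exact ⟨E₂.symm.trans E₁, fun v => by rw [LinearEquiv.trans_apply, hE₁, ← hE₂, E₂.apply_symm_apply]⟩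
    · exact absurd (h.mp p₁) p₂
    · exact absurd (h.mpr p₂) p₁
    · obtain rfl : k = l := by omega
      exact ⟨E₂.symm.trans E₁, fun v => by rw [LinearEquiv.trans_apply, hE₁, ← hE₂, E₂.apply_symm_apply]⟩
  refine ⟨Matrix.GeneralLinearGroup.toLin.symm (LinearMap.GeneralLinearGroup.ofLinearEquiv E), fun v => ?_⟩
  rw [← hE]
  congr 1
  have h1 : ∀ (P : GL (Fin m ⊕ Fin m) ↥(fixedField σ)) (w : Fin m ⊕ Fin m → ↥(fixedField σ)),
      (Matrix.GeneralLinearGroup.toLin P : (Fin m ⊕ Fin m → ↥(fixedField σ)) →ₗ[↥(fixedField σ)]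
        (Fin m ⊕ Fin m → ↥(fixedField σ))) w =
      (P : Matrix (Fin m ⊕ Fin m) (Fin m ⊕ Fin m) ↥(fixedField σ)) *ᵥ w := fun P w => by simp
  rw [← h1, MulEquiv.apply_symm_apply]
  rfl

theorem par_eq_of_conj (hm : 3 ≤ m) {σ : ↥(invAut (plusForm m F))} {g g' h : ↥(simG (plusForm m F))}
    (e : (simAut g * fieldAut σ : MulAut (POmega F ⇑(plusForm m F))) =
      simAut h * (simAut g' * fieldAut σ) * (simAut h)⁻¹) : par g = par g' := by
  rw [show (simAut h * (simAut g' * fieldAut σ) * (simAut h)⁻¹ : MulAut (POmega F ⇑(plusForm m F))) =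
      simAut h * simAut g' * (fieldAut σ * simAut h⁻¹) by rw [map_inv]; group,
    CfsgLib.Descent.fieldAut_simAut, ← mul_assoc, ← map_mul, ← map_mul] at e
  obtain ⟨c, hc⟩ := simAut_ker hm (g * (h * g' * simMap σ h⁻¹)⁻¹)
    (by rw [map_mul, map_inv, mul_right_cancel e, mul_inv_cancel])
  have h2 := par_eq_par (g := g * (h * g' * simMap σ h⁻¹)⁻¹) (h := 1) c (by rw [hc, OneMemClass.coe_one, mul_one])
  rw [map_one, map_mul, map_inv, mul_inv_eq_one, map_mul, map_mul, par_simMap, map_inv] at h2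
  rw [h2, mul_comm (par h), mul_inv_cancel_right]

theorem coset_frame_plus (hm : 3 ≤ m) {σ : ↥(invAut (plusForm m F))} {r : ℕ} (hr : orderOf (σ : F ≃+* F) = r)
    (g : ↥(simG (plusForm m F))) (hy : (simAut g * fieldAut σ : MulAut (POmega F ⇑(plusForm m F))) ^ r = 1) :
    ∃ (x : Fˣ) (H : GL (Fin m ⊕ Fin m) F) (η : Fˣ)
      (Q₀ : QuadraticForm ↥(fixedField (σ : F ≃+* F)) (Fin m ⊕ Fin m → ↥(fixedField (σ : F ≃+* F)))),
      scal x * (g : GL (Fin m ⊕ Fin m) F) * mapGL (σ : F ≃+* F) H = H ∧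
      (∀ a, plusForm m F ((H : Matrix (Fin m ⊕ Fin m) (Fin m ⊕ Fin m) F) *ᵥ
        liftVec (fixedField (σ : F ≃+* F)).subtype a) = (η : F) * (Q₀ a : F)) ∧ NDPolar Q₀ := by
  haveI : Nonempty (Fin m ⊕ Fin m) := ⟨Sum.inl ⟨0, by omega⟩⟩
  obtain ⟨x, H, η, Q₀, hH, hQ, hnd⟩ := coset_frame (fun g h => simAut_ker hm g h)
    ⟨Pi.single (Sum.inl ⟨0, by omega⟩) 1 + Pi.single (Sum.inr ⟨0, by omega⟩) 1, by
      simp [Cfsg.quadFormPlus, Pi.single_apply]⟩ hr g hy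
  exact ⟨x, H, η, Q₀, hH, hQ, hnd (CfsgLib.OrthCrit.ndPolar_plusForm m)⟩

/-- A non-singular vector with coordinates zero and one. -/
theorem exists_fixed_vec (hm : 1 ≤ m) :
    ∃ v : Fin m ⊕ Fin m → F, Cfsg.quadFormPlus m F v ≠ 0 ∧ ∀ (σ : F ≃+* F) i, σ (v i) = v i := by
  refine ⟨Pi.single (Sum.inl ⟨0, hm⟩) 1 + Pi.single (Sum.inr ⟨0, hm⟩) 1, by
    simp [Cfsg.quadFormPlus, Pi.single_apply], fun σ i => ?_⟩
  rw [Pi.add_apply, map_add, Pi.single_apply, Pi.single_apply]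
  congr 1 <;> split_ifs <;> simp

theorem reflCoset_pow {σ : ↥(invAut (plusForm m F))} (hσ : orderOf (σ : F ≃+* F) = 2) {v : Fin m ⊕ Fin m → F}
    (hv : Cfsg.quadFormPlus m F v ≠ 0) (hfix : ∀ i, (σ : F ≃+* F) (v i) = v i) :
    (simAut (refl hv) * fieldAut σ : MulAut (POmega F ⇑(plusForm m F))) ^ 2 = 1 := by
  rw [_root_.sq, show (simAut (refl hv) * fieldAut σ * (simAut (refl hv) * fieldAut σ) : MulAut (POmega F ⇑(plusForm m F))) =
      simAut (refl hv) * (fieldAut σ * simAut (refl hv)) * fieldAut σ by group, CfsgLib.Descent.fieldAut_simAut,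
    simMap_refl σ hv hfix, ← mul_assoc, ← map_mul, refl_sq, map_one, one_mul, ← map_mul, ← _root_.sq,
    show σ ^ 2 = 1 from Subtype.ext (by rw [SubmonoidClass.coe_pow, ← hσ]; exact pow_orderOf_eq_one _), map_one]

/-- Coset elements of order `r` of the same parity as a reference are conjugate to it by similarities. -/
theorem conj_same_par (hm : 3 ≤ m) {σ : ↥(invAut (plusForm m F))} {r : ℕ} (hr : r.Prime)
    (hσ : orderOf (σ : F ≃+* F) = r) {g g' : ↥(simG (plusForm m F))}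
    (hy : (simAut g * fieldAut σ : MulAut (POmega F ⇑(plusForm m F))) ^ r = 1)
    (hy' : (simAut g' * fieldAut σ : MulAut (POmega F ⇑(plusForm m F))) ^ r = 1) (hp : par g = par g') :
    ∃ h : ↥(simG (plusForm m F)), (simAut g * fieldAut σ : MulAut (POmega F ⇑(plusForm m F))) =
      simAut h * (simAut g' * fieldAut σ) * (simAut h)⁻¹ := by
  obtain ⟨x₁, H₁, η₁, Q₁, hH₁, hQ₁, hn₁⟩ := coset_frame_plus hm hσ g hy
  obtain ⟨x₂, H₂, η₂, Q₂, hH₂, hQ₂, hn₂⟩ := coset_frame_plus hm hσ g' hy'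
  by_cases hiff : IsPlus Q₁ ↔ IsPlus Q₂
  · obtain ⟨P, hP⟩ := exists_equiv_of_isPlus_iff Q₁ Q₂ hn₁ hn₂ hiff
    exact conj_of_frames hH₁ hQ₁ hH₂ hQ₂ P hP
  exfalso
  rcases hr.eq_two_or_odd' with rfl | hodd
  swap
  · exact hiff (iff_of_true (isPlus_of_odd (hσ ▸ hodd) (by omega) H₁ η₁ Q₁ hn₁ hQ₁)
      (isPlus_of_odd (hσ ▸ hodd) (by omega) H₂ η₂ Q₂ hn₂ hQ₂))
  -- compare both with the reflection and with the field automorphism
  obtain ⟨v, hv, hfix⟩ := exists_fixed_vec (F := F) (m := m) (by omega)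
  obtain ⟨x₃, H₃, η₃, Q₃, hH₃, hQ₃, hn₃⟩ := coset_frame_plus hm hσ (refl hv) (reflCoset_pow hσ hv (hfix _))
  obtain ⟨x₄, H₄, η₄, Q₄, hH₄, hQ₄, hn₄⟩ := coset_frame_plus hm hσ (1 : ↥(simG (plusForm m F))) (by
    rw [map_one, one_mul, ← map_pow, show σ ^ 2 = 1 from Subtype.ext (by
      rw [SubmonoidClass.coe_pow, ← hσ]; exact pow_orderOf_eq_one _), map_one])
  have key : ∀ {g₁ g₂ : ↥(simG (plusForm m F))} {y₁ y₂ : Fˣ} {K₁ K₂ : GL (Fin m ⊕ Fin m) F} {e₁ e₂ : Fˣ}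
      {R₁ R₂ : QuadraticForm ↥(fixedField (σ : F ≃+* F)) (Fin m ⊕ Fin m → ↥(fixedField (σ : F ≃+* F)))},
      NDPolar R₁ → NDPolar R₂ →
      scal y₁ * (g₁ : GL (Fin m ⊕ Fin m) F) * mapGL (σ : F ≃+* F) K₁ = K₁ →
      (∀ a, plusForm m F ((K₁ : Matrix (Fin m ⊕ Fin m) (Fin m ⊕ Fin m) F) *ᵥ
        liftVec (fixedField (σ : F ≃+* F)).subtype a) = (e₁ : F) * (R₁ a : F)) →
      scal y₂ * (g₂ : GL (Fin m ⊕ Fin m) F) * mapGL (σ : F ≃+* F) K₂ = K₂ →
      (∀ a, plusForm m F ((K₂ : Matrix (Fin m ⊕ Fin m) (Fin m ⊕ Fin m) F) *ᵥ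
        liftVec (fixedField (σ : F ≃+* F)).subtype a) = (e₂ : F) * (R₂ a : F)) →
      (IsPlus R₁ ↔ IsPlus R₂) → par g₁ = par g₂ := by
    intro g₁ g₂ y₁ y₂ K₁ K₂ e₁ e₂ R₁ R₂ k₁ k₂ a₁ b₁ a₂ b₂ hi
    obtain ⟨P, hP⟩ := exists_equiv_of_isPlus_iff R₁ R₂ k₁ k₂ hi
    obtain ⟨h, hh⟩ := conj_of_frames a₁ b₁ a₂ b₂ P hP
    exact par_eq_of_conj hm hh
  have h34 : ¬ (IsPlus Q₃ ↔ IsPlus Q₄) := fun h => by
    have := key hn₃ hn₄ hH₃ hQ₃ hH₄ hQ₄ h
    rw [map_one (par (F := F) (m := m)), par_refl] at this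
    exact absurd this (by decide)
  have hne : par (refl hv) ≠ par (1 : ↥(simG (plusForm m F))) := by
    rw [map_one (par (F := F) (m := m)), par_refl]; decide
  by_cases h13 : IsPlus Q₁ ↔ IsPlus Q₃
  · have h24 : IsPlus Q₂ ↔ IsPlus Q₄ := by tauto
    exact hne (((key hn₁ hn₃ hH₁ hQ₁ hH₃ hQ₃ h13).symm.trans hp).trans (key hn₂ hn₄ hH₂ hQ₂ hH₄ hQ₄ h24))
  · have h14 : IsPlus Q₁ ↔ IsPlus Q₄ := by tauto
    have h23 : IsPlus Q₂ ↔ IsPlus Q₃ := by tauto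
    exact hne (((key hn₂ hn₃ hH₂ hQ₂ hH₃ hQ₃ h23).symm.trans hp.symm).trans (key hn₁ hn₄ hH₁ hQ₁ hH₄ hQ₄ h14))

/-- Conjugacy by a similarity of parity zero. -/
theorem conj_K0 (hm : 3 ≤ m) {σ : ↥(invAut (plusForm m F))} {r : ℕ} (hr : r.Prime)
    (hσ : orderOf (σ : F ≃+* F) = r) {g g' : ↥(simG (plusForm m F))}
    (hy : (simAut g * fieldAut σ : MulAut (POmega F ⇑(plusForm m F))) ^ r = 1)
    (hy' : (simAut g' * fieldAut σ : MulAut (POmega F ⇑(plusForm m F))) ^ r = 1) (hp : par g = par g')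
    (hg' : g' = 1 ∨ ∃ (v : Fin m ⊕ Fin m → F) (hv : Cfsg.quadFormPlus m F v ≠ 0),
      (∀ i, (σ : F ≃+* F) (v i) = v i) ∧ g' = refl hv) :
    ∃ h ∈ K0 m F, (simAut g * fieldAut σ : MulAut (POmega F ⇑(plusForm m F))) =
      simAut h * (simAut g' * fieldAut σ) * (simAut h)⁻¹ := by
  obtain ⟨h, hh⟩ := conj_same_par hm hr hσ hy hy' hp
  rcases par_cases h with h0 | h1
  · exact ⟨h, mem_K0.mpr h0, hh⟩
  obtain ⟨v, hv, hfix, hcomm⟩ : ∃ (v : Fin m ⊕ Fin m → F) (hv : Cfsg.quadFormPlus m F v ≠ 0),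
      (∀ i, (σ : F ≃+* F) (v i) = v i) ∧ g' * refl hv = refl hv * g' := by
    rcases hg' with rfl | ⟨v, hv, hfix, rfl⟩
    · obtain ⟨v, hv, hfix⟩ := exists_fixed_vec (F := F) (m := m) (by omega)
      exact ⟨v, hv, hfix _, by rw [one_mul, mul_one]⟩
    · exact ⟨v, hv, hfix, rfl⟩
  refine ⟨h * refl hv, mem_K0.mpr (by rw [map_mul, h1, par_refl]; decide), ?_⟩
  have hc : (simAut g' * fieldAut σ * simAut (refl hv) : MulAut (POmega F ⇑(plusForm m F))) =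
      simAut (refl hv) * (simAut g' * fieldAut σ) := by
    rw [mul_assoc, CfsgLib.Descent.fieldAut_simAut, simMap_refl σ hv hfix, ← mul_assoc, ← map_mul, hcomm, map_mul,
      mul_assoc]
  rw [hh, map_mul, mul_assoc (simAut h) (simAut (refl hv)), ← hc]
  group

end CfsgLib.FieldAutPlus
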