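import Cfsg.Agent.Lib.FieldAutPlus.Torus
import Cfsg.Agent.Lib.AutPSL.Split
import Cfsg.Agent.Lib.AutPSp.Count

/-!
The centraliser of a standard field automorphism in the inner-diagonal group of the split form and the number
of inner classes in its inner-diagonal class.
-/

set_option autoImplicit false
set_option linter.unusedSectionVars false
set_option linter.style.haveILetI false
set_option maxHeartbeats 400000

namespace CfsgLib.FieldAutPlus

open Matrix QuadraticMap Module Cfsg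
open CfsgLib.OrthCrit (plusForm)
open CfsgLib.PGOQuot (simG simAut scal isoToSim sqSign)
open CfsgLib.PGOQuot.Ctx (th)
open CfsgLib.Descent (invAut fieldAut simMap liftVec mapGL)

variable {F : Type*} [Field F] [Fintype F] {m : ℕ}
variable {F₀ : Type*} [Field F₀] [Fintype F₀] (ι : F₀ →+* F)

theorem plusForm_lift (a : Fin m ⊕ Fin m → F₀) : plusForm m F (liftVec ι a) = ι (plusForm m F₀ a) := by
  simp [Cfsg.quadFormPlus, liftVec, map_sum]

/-- Base change of similarities. -/
noncomputable def mapSim : ↥(simG (plusForm m F₀)) →* ↥(simG (plusForm m F)) :=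
  ((Matrix.GeneralLinearGroup.map ι).comp (simG (plusForm m F₀)).subtype).codRestrict _ fun A => by
    obtain ⟨c, hc⟩ := A.2
    exact ⟨Units.map ι.toMonoidHom c,
      CfsgLib.Descent.similar_map ι (plusForm m F) (plusForm m F₀) (plusForm_lift ι) A.1 c hc⟩

theorem mapSim_coe (A : ↥(simG (plusForm m F₀))) :
    ((mapSim ι A : ↥(simG (plusForm m F))) : GL (Fin m ⊕ Fin m) F) = Matrix.GeneralLinearGroup.map ι A.1 := rfl

theorem par_mapSim (A : ↥(simG (plusForm m F₀))) : par (mapSim ι A) = par A := by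
  rw [par_apply, par_apply, mapSim_coe, parNat_map]

theorem mapSim_D (x : F₀ˣ × (Fin m → F₀ˣ)) :
    mapSim ι (D x) = D (Units.map ι.toMonoidHom x.1, fun i => Units.map ι.toMonoidHom (x.2 i)) := by
  refine Subtype.ext (Units.ext ?_)
  show ((diagGL (dvec x) : GL (Fin m ⊕ Fin m) F₀) : Matrix (Fin m ⊕ Fin m) (Fin m ⊕ Fin m) F₀).map ι = _
  rw [D_coe, diagGL_coe, diagGL_coe, Matrix.diagonal_map (map_zero ι)]
  congr 1
  funext k
  rcases k with i | i
  · rfl
  · simp [dvec, Units.val_div_eq_div_val, map_div₀]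

/-- Base change of isometries. -/
noncomputable def mapIso : ↥(isometryGroup F₀ ⇑(plusForm m F₀)) →* ↥(isometryGroup F ⇑(plusForm m F)) :=
  ((Matrix.GeneralLinearGroup.map ι).comp (isometryGroup F₀ ⇑(plusForm m F₀)).subtype).codRestrict _ fun A u _ => by
    have h := CfsgLib.Descent.similar_map ι (plusForm m F) (plusForm m F₀) (plusForm_lift ι) A.1 1
      (fun a => by rw [Units.val_one, one_mul]; exact A.2 a a) u
    rw [Units.val_one, map_one, one_mul] at h
    exact h

theorem mapSim_omega (w : ↥(Omega F₀ ⇑(plusForm m F₀))) :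
    ∃ w' : ↥(Omega F ⇑(plusForm m F)), mapSim ι (isoToSim (w : ↥(isometryGroup F₀ ⇑(plusForm m F₀)))) =
      isoToSim (w' : ↥(isometryGroup F ⇑(plusForm m F))) := by
  refine ⟨⟨mapIso ι w, ?_⟩, Subtype.ext rfl⟩
  have h : (Omega F₀ ⇑(plusForm m F₀)).map (mapIso ι) ≤ Omega F ⇑(plusForm m F) := by
    rw [Omega, commutator_def, Subgroup.map_commutator, Omega, commutator_def]
    exact Subgroup.commutator_mono le_top le_top
  exact h (Subgroup.mem_map_of_mem _ w.2)

variable (σ : ↥(invAut (plusForm m F))) (hι : ∀ a, (σ : F ≃+* F) (ι a) = ι a)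
  (hι' : ∀ y, (σ : F ≃+* F) y = y → ∃ a, ι a = y)

include hι in
theorem simMap_mapSim (A : ↥(simG (plusForm m F₀))) : simMap σ (mapSim ι A) = mapSim ι A :=
  Subtype.ext (Units.ext (Matrix.ext fun _ _ => hι _))

include hι in
theorem mapSim_mem_centralizer (A : ↥(simG (plusForm m F₀))) :
    simAut (mapSim ι A) ∈ Subgroup.centralizer {(fieldAut σ : MulAut (POmega F ⇑(plusForm m F)))} := by
  rw [Subgroup.mem_centralizer_singleton_iff, CfsgLib.Descent.fieldAut_simAut, simMap_mapSim ι σ hι]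

include hι' in
theorem fixed_decomp (hm : 3 ≤ m) {g : ↥(simG (plusForm m F))} (hg : g ∈ K0 m F)
    (h : simAut g ∈ Subgroup.centralizer {(fieldAut σ : MulAut (POmega F ⇑(plusForm m F)))}) :
    ∃ A ∈ K0 m F₀, simAut g = simAut (mapSim ι A) := by
  haveI : Nonempty (Fin m ⊕ Fin m) := ⟨Sum.inl ⟨0, by omega⟩⟩
  rw [Subgroup.mem_centralizer_singleton_iff, CfsgLib.Descent.fieldAut_simAut, mul_left_inj] at h
  obtain ⟨u, hu⟩ := simAut_ker hm (simMap σ g * g⁻¹) (by rw [map_mul, map_inv, ← h, mul_inv_cancel])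
  rw [Subgroup.coe_mul, Subgroup.coe_inv, CfsgLib.Descent.simMap_coe, mul_inv_eq_iff_eq_mul,
    CfsgLib.Descent.scal_eq] at hu
  obtain ⟨e, A, hgA⟩ := CfsgLib.Descent.exists_scalar_base ι hι' hu
  obtain ⟨c, hc⟩ := g.2
  obtain ⟨c₀, -, hc₀⟩ := CfsgLib.Descent.similar_of_map ι (plusForm m F) (plusForm m F₀) (plusForm_lift ι)
    ⟨Pi.single (Sum.inl ⟨0, by omega⟩) 1 + Pi.single (Sum.inr ⟨0, by omega⟩) 1, by
      simp [Cfsg.quadFormPlus, Pi.single_apply]⟩ A e c (fun v => by rw [← hgA]; exact hc v)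
  let A' : ↥(simG (plusForm m F₀)) := ⟨A, c₀, hc₀⟩
  have hg' : g = ⟨scal e, CfsgLib.PGOQuot.scal_mem_simG e⟩ * mapSim ι A' := Subtype.ext (by
    rw [hgA, ← CfsgLib.Descent.scal_eq]; rfl)
  refine ⟨A', mem_K0.mpr ?_, ?_⟩
  · have h1 := mem_K0.mp hg
    rwa [hg', map_mul, par_scal, one_mul, par_mapSim] at h1
  · rw [hg', map_mul, CfsgLib.Descent.simAut_scal, one_mul]

include hι hι' in
theorem centralizer_eq (hm : 3 ≤ m) :
    (K0 m F).map simAut ⊓ Subgroup.centralizer {(fieldAut σ : MulAut (POmega F ⇑(plusForm m F)))} =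
      ((K0 m F₀).map (mapSim ι)).map simAut := by
  ext y
  constructor
  · rintro ⟨⟨g, hg, rfl⟩, h2⟩
    obtain ⟨A, hA, he⟩ := fixed_decomp ι σ hι' hm hg h2
    exact ⟨_, ⟨A, hA, rfl⟩, he.symm⟩
  · rintro ⟨_, ⟨A, hA, rfl⟩, rfl⟩
    exact ⟨⟨_, mem_K0.mpr ((par_mapSim ι A).trans (mem_K0.mp hA)), rfl⟩, mapSim_mem_centralizer ι σ hι A⟩

theorem simAut_mapSim_eq_one_iff (hm : 3 ≤ m) (A : ↥(simG (plusForm m F₀))) :
    simAut (mapSim ι A) = 1 ↔ simAut A = 1 := by
  constructor
  · intro h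
    obtain ⟨c, hc⟩ := simAut_ker hm _ h
    rw [mapSim_coe] at hc
    have hent : ∀ i j, ι ((A.1 : Matrix (Fin m ⊕ Fin m) (Fin m ⊕ Fin m) F₀) i j) = if i = j then (c : F) else 0 :=
      fun i j => by
        have h1 : ((Matrix.GeneralLinearGroup.map ι A.1 : GL (Fin m ⊕ Fin m) F) :
            Matrix (Fin m ⊕ Fin m) (Fin m ⊕ Fin m) F) i j = ((scal c : GL (Fin m ⊕ Fin m) F) :
            Matrix (Fin m ⊕ Fin m) (Fin m ⊕ Fin m) F) i j := by rw [hc]
        refine Eq.trans ?_ (h1.trans ?_)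
        · rfl
        · simp [scal, Matrix.diagonal_apply]
    let k : Fin m ⊕ Fin m := Sum.inl ⟨0, by omega⟩
    set a := (A.1 : Matrix (Fin m ⊕ Fin m) (Fin m ⊕ Fin m) F₀) k k with ha
    have hac : ι a = c := by rw [ha, hent, if_pos rfl]
    have ha0 : a ≠ 0 := fun hz => c.ne_zero (by rw [← hac, hz, map_zero])
    have hA : A = ⟨scal (Units.mk0 a ha0), CfsgLib.PGOQuot.scal_mem_simG _⟩ := by
      refine Subtype.ext (Units.ext (Matrix.ext fun i j => ι.injective ?_))
      rw [hent]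
      by_cases hij : i = j
      · subst hij; simp [scal, hac]
      · simp [scal, hij]
    rw [hA, CfsgLib.Descent.simAut_scal]
  · intro h
    obtain ⟨c, hc⟩ := simAut_ker hm A h
    have hA : mapSim ι A = ⟨scal (Units.map ι.toMonoidHom c), CfsgLib.PGOQuot.scal_mem_simG _⟩ := by
      refine Subtype.ext (Units.ext (Matrix.ext fun i j => ?_))
      show ι ((A.1 : Matrix (Fin m ⊕ Fin m) (Fin m ⊕ Fin m) F₀) i j) = _
      rw [hc]
      by_cases hij : i = j
      · subst hij; simp [scal]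
      · simp [scal, hij]
    rw [hA, CfsgLib.Descent.simAut_scal]

include hι hι' in
/-- The centraliser of a field automorphism is the inner-diagonal group over the fixed field. -/
theorem centralizer_equiv (hm : 3 ≤ m) :
    Nonempty (↥((K0 m F).map simAut ⊓ Subgroup.centralizer {(fieldAut σ : MulAut (POmega F ⇑(plusForm m F)))}) ≃*
      ↥((K0 m F₀).map (simAut (Q := plusForm m F₀)))) := by
  let ψ : ↥(K0 m F₀) →* MulAut (POmega F ⇑(plusForm m F)) := (simAut.comp (mapSim ι)).comp (K0 m F₀).subtype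
  let χ : ↥(K0 m F₀) →* MulAut (POmega F₀ ⇑(plusForm m F₀)) := simAut.comp (K0 m F₀).subtype
  have hker : ψ.ker = χ.ker := by
    ext A
    exact simAut_mapSim_eq_one_iff ι hm A.1
  have hψ : ψ.range = (K0 m F).map simAut ⊓ Subgroup.centralizer {fieldAut σ} := by
    rw [centralizer_eq ι σ hι hι' hm, Subgroup.map_map, MonoidHom.range_comp, Subgroup.range_subtype]
  have hχ : χ.range = (K0 m F₀).map simAut := by rw [MonoidHom.range_comp, Subgroup.range_subtype]
  exact ⟨((MulEquiv.subgroupCongr hψ).symm.trans ((QuotientGroup.quotientKerEquivRange ψ).symm.trans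
    ((QuotientGroup.quotientMulEquivOfEq hker).trans
      ((QuotientGroup.quotientKerEquivRange χ).trans (MulEquiv.subgroupCongr hχ)))))⟩

/-- The subgroup whose index counts the classes. -/
noncomputable abbrev countSub : Subgroup (MulAut (POmega F ⇑(plusForm m F))) :=
  (K0 m F).map simAut ⊓ Subgroup.centralizer {(fieldAut σ : MulAut (POmega F ⇑(plusForm m F)))} ⊔
    Cfsg.Inn (POmega F ⇑(plusForm m F))

theorem split_eq_relIndex :
    Cfsg.splitClassCount ((K0 m F).map simAut) (Cfsg.Inn (POmega F ⇑(plusForm m F))) (fieldAut σ) =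
      (countSub σ).relIndex ((K0 m F).map simAut) :=
  CfsgLib.AutPSL.splitClassCount_eq_relIndex _ _ inn_le (fun h _ k hk => CfsgLib.AutPSp.inn_conj h hk) _

include hι in
/-- One class if every unit is one of the fixed field times a square. -/
theorem count_one (hm : 3 ≤ m) (hsurj : ∀ a : Fˣ, ∃ (c : F₀ˣ) (t : Fˣ), a = Units.map ι.toMonoidHom c * (t * t)) :
    Cfsg.splitClassCount ((K0 m F).map simAut) (Cfsg.Inn (POmega F ⇑(plusForm m F))) (fieldAut σ) = 1 := by
  rw [split_eq_relIndex, Subgroup.relIndex_eq_one]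
  refine inndiag_le hm le_sup_right fun x => ?_
  obtain ⟨c, s, hs⟩ := hsurj x.1
  choose d t ht using fun i => hsurj (x.2 i / s)
  have hx : x = (Units.map ι.toMonoidHom c, fun i => Units.map ι.toMonoidHom (d i)) * ((s * s, fun _ => s) *
      ((1, t * t) : Fˣ × (Fin m → Fˣ))) := by
    refine Prod.ext ?_ (funext fun i => ?_)
    · show x.1 = _ * (s * s * 1)
      rw [mul_one, hs]
    · show x.2 i = Units.map ι.toMonoidHom (d i) * (s * (t i * t i))
      rw [mul_left_comm, ← ht i, mul_div_cancel]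
  rw [hx, map_mul, map_mul, map_mul, map_mul, D_scal, CfsgLib.Descent.simAut_scal, one_mul,
    ← mapSim_D ι (c, d)]
  refine Subgroup.mul_mem _ (Subgroup.mem_sup_left ⟨⟨_, ?_, rfl⟩, mapSim_mem_centralizer ι σ hι _⟩)
    (Subgroup.mem_sup_right (simAut_D_sq_mem hm t))
  exact mem_K0.mpr (by rw [par_mapSim, par_D])

variable (hodd : Odd (Fintype.card F))

/-- The image of the torus with a constant entry in the outer group. -/
theorem outer_const (hm : 3 ≤ m) (s : Fˣ) :
    (CfsgLib.PGOQuot.outer (D ((1, fun _ => s) : Fˣ × (Fin m → Fˣ))) = 1 ∧ sqSign s ^ m = 1) ∨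
    (CfsgLib.PGOQuot.outer (D ((1, fun _ => s) : Fˣ × (Fin m → Fˣ))) = (CfsgLib.PGOQuot.Plus.ctx (F := F) hodd hm).z ∧
      sqSign s ^ m = -1) := by
  have h2 := CfsgLib.PGOQuot.Plus.two_ne_zero' hodd
  rw [← isoToSim_torus]
  have hth : th (torus (fun _ => s : Fin m → Fˣ)) = sqSign s ^ m := by
    rw [th_torus h2, map_prod, Finset.prod_const, Finset.card_univ, Fintype.card_fin]
  have hd : CfsgLib.OrthSpinor.detHom (torus (fun _ => s : Fin m → Fˣ)) = 1 :=
    (CfsgLib.OrthCrit.detHom_eq_one_iff (CfsgLib.OrthCrit.ndPolar_plusForm m) h2 _).mpr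
      (parity_eq_zero_of_par hm (by rw [isoToSim_torus, par_D]))
  rw [← hth]
  exact (CfsgLib.PGOQuot.Plus.ctx (F := F) hodd hm).outer_proper hd

include hodd in
theorem relIndex_inn (hm : 3 ≤ m) (h4 : Fintype.card F % 4 = 1) :
    (Cfsg.Inn (POmega F ⇑(plusForm m F))).relIndex ((K0 m F).map simAut) = 4 := by
  obtain ⟨S, hu, -⟩ := CfsgLib.PGOQuot.Plus.exists_sim (F := F) hodd hm
  have h := (CfsgLib.PGOQuot.Plus.th_negI (F := F) hodd hm).2 (fun h => by omega)
  have e : (K0 m F).map simAut = ((CfsgLib.PGOQuot.Plus.ctx (F := F) hodd hm).eps.ker).map simAut :=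
    inndiag_eq.symm.trans (CfsgLib.PGOQuot.Plus.inndiag_eq (F := F) hodd hm)
  rw [e]
  rcases Nat.even_or_odd m with he | ho
  · obtain ⟨φ, h1, h2⟩ := S.proper_klein h (by rw [hu, he.neg_one_pow])
    rw [CfsgLib.PGOQuot.relIndex_eq_card _ _ φ h1 h2]
    simp
  · obtain ⟨φ, h1, h2⟩ := S.proper_four h (by rw [hu, ho.neg_one_pow])
    rw [CfsgLib.PGOQuot.relIndex_eq_card _ _ φ h1 h2]
    simp

include hι hι' hodd in
/-- Two or four classes when the fixed units are squares. -/
theorem count_quadratic (hm : 3 ≤ m) (h4 : Fintype.card F % 4 = 1)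
    (hsq : ∀ c : F₀ˣ, IsSquare (ι (c : F₀))) :
    ((∀ (c : F₀ˣ) (s : Fˣ), (s : F) * s = ι (c : F₀) → sqSign s ^ m = 1) →
      Cfsg.splitClassCount ((K0 m F).map simAut) (Cfsg.Inn (POmega F ⇑(plusForm m F))) (fieldAut σ) = 4) ∧
    ((∃ (c : F₀ˣ) (s : Fˣ), (s : F) * s = ι (c : F₀) ∧ sqSign s ^ m = -1) →
      Cfsg.splitClassCount ((K0 m F).map simAut) (Cfsg.Inn (POmega F ⇑(plusForm m F))) (fieldAut σ) = 2) := by
  set C := CfsgLib.PGOQuot.Plus.ctx (F := F) hodd hm
  have hroot : ∀ c : F₀ˣ, ∃ s : Fˣ, Units.map ι.toMonoidHom c = s * s := fun c => by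
    obtain ⟨b, hb⟩ := hsq c
    have hb0 : b ≠ 0 := fun h => c.ne_zero (ι.injective (by rw [hb, h, mul_zero, map_zero]))
    exact ⟨Units.mk0 b hb0, Units.ext hb⟩
  -- the class of a fixed diagonal element
  have hD : ∀ (c : F₀ˣ) (l : Fin m → F₀ˣ) (s : Fˣ), Units.map ι.toMonoidHom c = s * s →
      CfsgLib.PGOQuot.outer (mapSim ι (D (c, l))) =
        CfsgLib.PGOQuot.outer (D ((1, fun _ => s⁻¹) : Fˣ × (Fin m → Fˣ))) := by
    intro c l s hs
    choose t ht using fun i => hroot (l i)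
    have hx : ((Units.map ι.toMonoidHom c, fun i => Units.map ι.toMonoidHom (l i)) : Fˣ × (Fin m → Fˣ)) =
        (s * s, fun _ => s) * ((1, t * t) * (1, fun _ => s⁻¹)) := by
      refine Prod.ext ?_ (funext fun i => ?_)
      · show _ = s * s * (1 * 1)
        rw [one_mul, mul_one, hs]
      · show _ = s * (t i * t i * s⁻¹)
        rw [mul_comm, inv_mul_cancel_right]
        exact ht i
    rw [mapSim_D, hx, map_mul, map_mul, map_mul, map_mul, D_scal]
    rw [show CfsgLib.PGOQuot.outer (⟨scal s, CfsgLib.PGOQuot.scal_mem_simG s⟩ : ↥(simG (plusForm m F))) = 1 from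
      C.outer_scal s, one_mul,
      show CfsgLib.PGOQuot.outer (D ((1, t * t) : Fˣ × (Fin m → Fˣ))) = 1 from
        (QuotientGroup.eq_one_iff _).mpr (simAut_D_sq_mem hm t), one_mul]
  let q := QuotientGroup.mk' (Cfsg.Inn (POmega F ⇑(plusForm m F)))
  have hS : (countSub σ).map q = ((K0 m F₀).map (mapSim ι)).map (CfsgLib.PGOQuot.outer (Q := plusForm m F)) := by
    rw [countSub, Subgroup.map_sup, centralizer_eq ι σ hι hι' hm, Subgroup.map_map,
      show (Cfsg.Inn (POmega F ⇑(plusForm m F))).map q = ⊥ from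
        (Subgroup.map_eq_bot_iff _).mpr (by rw [QuotientGroup.ker_mk']), sup_bot_eq]
    rfl
  have hcount : Nat.card ↥((countSub σ).map q) *
      Cfsg.splitClassCount ((K0 m F).map simAut) (Cfsg.Inn (POmega F ⇑(plusForm m F))) (fieldAut σ) = 4 := by
    rw [split_eq_relIndex, ← relIndex_inn hodd hm h4,
      ← Subgroup.relIndex_mul_relIndex (Cfsg.Inn (POmega F ⇑(plusForm m F))) (countSub σ) ((K0 m F).map simAut)
        le_sup_right (sup_le inf_le_left inn_le)]
    congr 1
    have h := Subgroup.relIndex_comap (⊥ : Subgroup _) q (countSub σ)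
    rw [Subgroup.relIndex_bot_left, MonoidHom.comap_bot, QuotientGroup.ker_mk'] at h
    exact h.symm
  have hle : ∀ y ∈ (countSub σ).map q, y = 1 ∨ (y = C.z ∧
      ∃ (c : F₀ˣ) (s : Fˣ), (s : F) * s = ι (c : F₀) ∧ sqSign s ^ m = -1) := by
    rw [hS]
    rintro _ ⟨_, ⟨A, hA, rfl⟩, rfl⟩
    obtain ⟨⟨c, l⟩, w, rfl⟩ := exists_D_omega hm hA
    obtain ⟨w', hw'⟩ := mapSim_omega ι w
    obtain ⟨s, hs⟩ := hroot c
    rw [map_mul, map_mul, hw', show CfsgLib.PGOQuot.outer (isoToSim (w' : ↥(isometryGroup F ⇑(plusForm m F)))) = 1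
      from (QuotientGroup.eq_one_iff _).mpr (simAut_omega_mem w'), mul_one, hD c l s hs]
    rcases outer_const hodd hm s⁻¹ with ⟨h, -⟩ | ⟨h, h'⟩
    · exact Or.inl h
    · refine Or.inr ⟨h, c, s, (congrArg Units.val hs).symm, ?_⟩
      rwa [map_inv, Int.units_inv_eq_self] at h'
  refine ⟨fun hall => ?_, ?_⟩
  · have hbot : (countSub σ).map q = ⊥ := (Subgroup.eq_bot_iff_forall _).mpr fun y hy => by
      rcases hle y hy with h | ⟨-, c, s, hs, h⟩
      · exact h
      · rw [hall c s hs] at h; exact absurd h (by decide)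
    rwa [hbot, Subgroup.card_bot, one_mul] at hcount
  · rintro ⟨c, s, hs, hneg⟩
    have hz : (countSub σ).map q = Subgroup.zpowers C.z := by
      refine le_antisymm (fun y hy => ?_) ((Subgroup.zpowers_le).mpr ?_)
      · rcases hle y hy with h | ⟨h, -⟩ <;> rw [h]
        exacts [one_mem _, Subgroup.mem_zpowers _]
      · rw [hS]
        refine ⟨_, ⟨D (c, fun _ => 1), D_mem_K0 _, rfl⟩, ?_⟩
        rw [hD c _ s (Units.ext hs.symm)]
        rcases outer_const hodd hm s⁻¹ with ⟨-, h⟩ | ⟨h, -⟩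
        · rw [map_inv, Int.units_inv_eq_self, hneg] at h; exact absurd h (by decide)
        · exact h
    have hz1 : C.z ≠ 1 := CfsgLib.PGOQuot.Ctx.z_ne_one
      ((CfsgLib.PGOQuot.Plus.th_negI (F := F) hodd hm).2 (fun h => by omega))
    rw [hz, Nat.card_zpowers, orderOf_eq_prime (by rw [_root_.sq, C.z_mul_z]) hz1] at hcount
    omega

end CfsgLib.FieldAutPlus
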