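import Cfsg.Agent.Lib.FieldAutPlus.Normalise
import Cfsg.Agent.Lib.FieldAutPlus.Split
import Cfsg.Agent.Lib.AutPSL.FieldAut

/-!
Field automorphisms of prime order of the split projective group: field degree, centraliser in the inner-diagonal
group and splitting of the class.
-/

set_option autoImplicit false
set_option linter.unusedSectionVars false
set_option linter.style.haveILetI false
set_option maxHeartbeats 400000

namespace CfsgLib.FieldAutPlus

open Matrix QuadraticMap Module Cfsg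
open CfsgLib.OrthCrit (plusForm)
open CfsgLib.PGOQuot (simG simAut sqSign)
open CfsgLib.Descent (invAut fieldAut)
open CfsgLib.AutPSL (fixedField mem_fixedField)

section Transport

variable {X : Type*} [Group X] {H K : Subgroup X} {a x z : X}

theorem map_conj_eq (h1 : ∀ y ∈ H, a * y * a⁻¹ ∈ H) (h2 : ∀ y ∈ H, a⁻¹ * y * a⁻¹⁻¹ ∈ H) :
    H.map (MulAut.conj a).toMonoidHom = H := by
  refine le_antisymm ?_ fun y hy => ⟨a⁻¹ * y * a⁻¹⁻¹, h2 y hy, ?_⟩
  · rintro _ ⟨y, hy, rfl⟩
    exact h1 y hy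
  · show a * _ * a⁻¹ = y
    group

theorem centralizer_map_conj (hx : x = a * z * a⁻¹) (hH : H.map (MulAut.conj a).toMonoidHom = H) :
    (H ⊓ Subgroup.centralizer {z}).map (MulAut.conj a).toMonoidHom = H ⊓ Subgroup.centralizer {x} := by
  rw [Subgroup.map_inf _ _ _ (MulAut.conj a).injective, hH]
  congr 1
  ext y
  rw [Subgroup.map_equiv_eq_comap_symm', Subgroup.mem_comap]
  show a⁻¹ * y * a ∈ _ ↔ _
  rw [Subgroup.mem_centralizer_singleton_iff, Subgroup.mem_centralizer_singleton_iff, hx]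
  constructor <;> intro h
  · calc y * (a * z * a⁻¹) = a * (a⁻¹ * y * a * z) * a⁻¹ := by group
      _ = _ := by rw [h]; group
  · calc a⁻¹ * y * a * z = a⁻¹ * (y * (a * z * a⁻¹)) * a := by group
      _ = _ := by rw [h]; group

/-- The centraliser in a subgroup and the split count do not change under conjugation by a normalising element. -/
theorem transport (hK : K ≤ H) (hN : ∀ h : X, ∀ k ∈ K, h * k * h⁻¹ ∈ K) (hx : x = a * z * a⁻¹)
    (h1 : ∀ y ∈ H, a * y * a⁻¹ ∈ H) (h2 : ∀ y ∈ H, a⁻¹ * y * a⁻¹⁻¹ ∈ H) :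
    Nonempty (↥(H ⊓ Subgroup.centralizer {x}) ≃* ↥(H ⊓ Subgroup.centralizer {z})) ∧
      Cfsg.splitClassCount H K x = Cfsg.splitClassCount H K z := by
  have hH := map_conj_eq h1 h2
  have hKe := map_conj_eq (H := K) (fun y hy => hN a y hy) (fun y hy => hN a⁻¹ y hy)
  have hC := centralizer_map_conj hx hH
  refine ⟨⟨((MulEquiv.subgroupCongr hC).symm.trans
    ((H ⊓ Subgroup.centralizer {z}).equivMapOfInjective _ (MulAut.conj a).injective).symm)⟩, ?_⟩
  rw [CfsgLib.AutPSL.splitClassCount_eq_relIndex _ _ hK (fun h _ => hN h) x,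
    CfsgLib.AutPSL.splitClassCount_eq_relIndex _ _ hK (fun h _ => hN h) z,
    ← Subgroup.relIndex_map_map_of_injective ((H ⊓ Subgroup.centralizer {z}) ⊔ K) H
      (f := (MulAut.conj a).toMonoidHom) (MulAut.conj a).injective,
    Subgroup.map_sup, hC, hKe, hH]

end Transport

variable {F : Type*} [Field F] [Fintype F] {m : ℕ}
variable {F₀ : Type*} [Field F₀] [Fintype F₀] (ι : F₀ →+* F)

/-- Every unit is a fixed one times a square, for an extension of odd degree or in characteristic two. -/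
theorem hsurj_of {σ : F ≃+* F} (hι : ∀ a, σ (ι a) = ι a) (hι' : ∀ y, σ y = y → ∃ a, ι a = y)
    (h : Odd (orderOf σ) ∨ ringChar F = 2) (a : Fˣ) :
    ∃ (c : F₀ˣ) (t : Fˣ), a = Units.map ι.toMonoidHom c * (t * t) := by
  by_cases hsq : IsSquare (a : F)
  · obtain ⟨t, ht⟩ := hsq
    have ht0 : t ≠ 0 := fun h => a.ne_zero (by rw [ht, h, mul_zero])
    exact ⟨1, Units.mk0 t ht0, by rw [map_one, one_mul]; exact Units.ext ht⟩
  have hchar : ringChar F ≠ 2 := fun h2 => hsq (FiniteField.isSquare_of_char_two h2 _)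
  have hchar₀ : ringChar F₀ ≠ 2 := fun h2 => hchar (by
    haveI : CharP F₀ 2 := ringChar.of_eq h2
    haveI := charP_of_injective_ringHom ι.injective 2
    exact ringChar.eq F 2)
  obtain ⟨ν, hns⟩ := FiniteField.exists_nonsquare hchar₀
  have hν : ν ≠ 0 := fun h => hns (h ▸ IsSquare.zero)
  have hns' : ¬ IsSquare (ι ν) := by
    rintro ⟨t, ht⟩
    have ht0 : t ≠ 0 := fun h => hν (ι.injective (by rw [ht, h, mul_zero, map_zero]))
    have h1 : σ t * σ t = t * t := by rw [← map_mul, ← ht, hι]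
    rcases mul_self_eq_mul_self_iff.mp h1 with hfix | hneg
    · obtain ⟨b, rfl⟩ := hι' t hfix
      exact hns ⟨b, ι.injective (by rw [ht, map_mul])⟩
    · have hk : ∀ k : ℕ, (σ ^ k) t = (-1) ^ k * t := fun k => by
        induction k with
        | zero => simp
        | succ k ih => rw [pow_succ, RingAut.mul_apply, hneg, map_neg, ih, pow_succ]; ring
      have h3 := hk (orderOf σ)
      rw [pow_orderOf_eq_one, (h.resolve_right hchar).neg_one_pow, RingAut.one_apply, neg_one_mul] at h3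
      exact (mul_ne_zero (Ring.two_ne_zero hchar) ht0) (by linear_combination h3)
  let c : F₀ˣ := Units.mk0 ν hν
  obtain ⟨t, ht⟩ : IsSquare ((a / Units.map ι.toMonoidHom c : Fˣ) : F) := by
    refine (CfsgLib.PGOQuot.sqSign_eq_one_iff _).mp ?_
    rw [map_div, (CfsgLib.PGOQuot.sqSign_eq_neg_one_iff a).mpr hsq,
      (CfsgLib.PGOQuot.sqSign_eq_neg_one_iff _).mpr (by simpa [c] using hns'), div_self']
  have ht0 : t ≠ 0 := fun h => (a / Units.map ι.toMonoidHom c).ne_zero (by rw [ht, h, mul_zero])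
  refine ⟨c, Units.mk0 t ht0, ?_⟩
  rw [mul_comm, ← div_eq_iff_eq_mul]
  exact Units.ext ht

variable {k : ℕ} (h₀ : Fintype.card F₀ = 2 * k + 1) (hcard : Fintype.card F = Fintype.card F₀ ^ 2)

include h₀ in
theorem ringChar₀_ne_two : ringChar F₀ ≠ 2 := fun h => by
  have := FiniteField.even_card_of_char_two h
  omega

include h₀ hcard in
theorem card_div_two : Fintype.card F / 2 = 2 * (k * (k + 1)) := by
  rw [hcard, h₀, show (2 * k + 1) ^ 2 = 2 * (2 * (k * (k + 1))) + 1 by ring]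
  omega

include h₀ hcard in
theorem ringChar_ne_two : ringChar F ≠ 2 := fun h => by
  have := FiniteField.even_card_of_char_two h
  rw [hcard, h₀, show (2 * k + 1) ^ 2 = 2 * (2 * (k * (k + 1))) + 1 by ring] at this
  omega

include h₀ hcard in
theorem isSquare_fixed (c : F₀ˣ) : IsSquare (ι (c : F₀)) := by
  rw [FiniteField.isSquare_iff (ringChar_ne_two (F := F) h₀ hcard) (by simp), card_div_two h₀ hcard,
    ← map_pow, ← mul_assoc, show 2 * k = Fintype.card F₀ - 1 by omega, pow_mul,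
    FiniteField.pow_card_sub_one_eq_one _ c.ne_zero, one_pow, map_one]

include h₀ hcard in
/-- A square root of a fixed unit is a square, unless `k` is even and the unit is no square there. -/
theorem sqSign_root (c : F₀ˣ) (s : Fˣ) (hs : (s : F) * s = ι (c : F₀)) :
    (Odd k → sqSign s = 1) ∧ (Even k → ¬ IsSquare (c : F₀) → sqSign s = -1) := by
  have hF := ringChar_ne_two (F := F) h₀ hcard
  have hpow : (s : F) ^ (Fintype.card F / 2) = ι ((c : F₀) ^ (k * (k + 1))) := by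
    rw [card_div_two h₀ hcard, pow_mul, _root_.sq, hs, map_pow]
  refine ⟨fun hk => ?_, fun hk hc => ?_⟩
  · refine (CfsgLib.PGOQuot.sqSign_eq_one_iff s).mpr ((FiniteField.isSquare_iff hF s.ne_zero).mpr ?_)
    obtain ⟨j, hj⟩ := hk
    rw [hpow, show k * (k + 1) = 2 * k * (j + 1) by rw [hj]; ring,
      show 2 * k = Fintype.card F₀ - 1 by omega, pow_mul,
      FiniteField.pow_card_sub_one_eq_one _ c.ne_zero, one_pow, map_one]
  · refine (CfsgLib.PGOQuot.sqSign_eq_neg_one_iff s).mpr fun hsq => ?_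
    have h1 := (FiniteField.isSquare_iff hF s.ne_zero).mp hsq
    have hc1 : (c : F₀) ^ k = -1 := by
      have h0 := ringChar₀_ne_two (F₀ := F₀) h₀
      rcases FiniteField.pow_dichotomy h0 c.ne_zero with h | h
      · exact absurd ((FiniteField.isSquare_iff h0 c.ne_zero).mpr h) hc
      · rwa [show Fintype.card F₀ / 2 = k by omega] at h
    rw [hpow, pow_mul, hc1, hk.add_one.neg_one_pow, map_neg, map_one] at h1
    exact Ring.neg_one_ne_one_of_char_ne_two hF h1

/-- Field automorphisms of prime order. -/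
theorem plus_field_facts {p f : ℕ} [Fact p.Prime] (hF : Fintype.card F = p ^ f) (hm : 4 ≤ m)
    {x : MulAut (POmega F ⇑(plusForm m F))} (hx : IsFieldAutClassPOmega ⇑(plusForm m F) x) {r : ℕ}
    (hxr : orderOf x = r) (F₀ : Type*) [Field F₀] [Fintype F₀] (hF₀ : Fintype.card F₀ = p ^ (f / r)) :
    r ∣ f ∧ Nonempty (↥((K0 m F).map simAut ⊓ Subgroup.centralizer {x}) ≃*
        ↥((K0 m F₀).map (simAut (Q := plusForm m F₀)))) ∧
      ((Odd r ∨ p = 2) →
        Cfsg.splitClassCount ((K0 m F).map simAut) (Cfsg.Inn (POmega F ⇑(plusForm m F))) x = 1) ∧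
      ((r = 2 ∧ p ≠ 2 ∧ Odd m ∧ p ^ (f / 2) % 4 = 1) →
        Cfsg.splitClassCount ((K0 m F).map simAut) (Cfsg.Inn (POmega F ⇑(plusForm m F))) x = 2) ∧
      ((r = 2 ∧ p ≠ 2 ∧ ¬ (Odd m ∧ p ^ (f / 2) % 4 = 1)) →
        Cfsg.splitClassCount ((K0 m F).map simAut) (Cfsg.Inn (POmega F ⇑(plusForm m F))) x = 4) := by
  have hm3 : 3 ≤ m := by omega
  obtain ⟨α, φ, σ₀, -, hφ, hαx⟩ := hx
  set σ : ↥(invAut (plusForm m F)) := toInv σ₀
  obtain rfl := (CfsgLib.Descent.fieldAutOf_iff σ φ).mp hφ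
  have hxe : x = α⁻¹ * fieldAut σ * α⁻¹⁻¹ := eq_conj_of_conj hαx
  have hσr : orderOf (σ : F ≃+* F) = r := by
    rw [← hxr, Subgroup.orderOf_coe, ← orderOf_injective _ (fieldAut_inj hm3) σ, ← hαx]
    exact (MulAut.conj α).orderOf_eq x
  obtain ⟨hN, hcount⟩ := transport (K := Cfsg.Inn (POmega F ⇑(plusForm m F))) inn_le
    (fun h k hk => CfsgLib.AutPSp.inn_conj h hk) hxe (conj_mem hm α⁻¹) (conj_mem hm α⁻¹⁻¹)
  rw [hcount]
  have hrf := (CfsgLib.AutPSL.fixedField_card (σ : F ≃+* F) hF hσr).1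
  obtain ⟨e⟩ := CfsgLib.AutPSL.exists_equiv_fixedField (σ : F ≃+* F) hF hσr hF₀
  let ι : F₀ →+* F := (fixedField (σ : F ≃+* F)).subtype.comp e.toRingHom
  have hι : ∀ a, (σ : F ≃+* F) (ι a) = ι a := fun a => (mem_fixedField _).mp (e a).2
  have hι' : ∀ y, (σ : F ≃+* F) y = y → ∃ a, ι a = y := fun y hy => ⟨e.symm ⟨y, hy⟩, by simp [ι]⟩
  obtain ⟨e₁⟩ := hN
  obtain ⟨e₂⟩ := centralizer_equiv ι σ hι hι' hm3
  have hp : p.Prime := Fact.out
  refine ⟨hrf, ⟨e₁.trans e₂⟩, fun h => ?_, ?_⟩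
  · refine count_one ι σ hι hm3 (hsurj_of ι hι hι' ?_)
    rcases h with h | rfl
    · exact Or.inl (hσr ▸ h)
    · right
      have hev : Fintype.card F % 2 = 0 := by
        have hf : f ≠ 0 := fun h => by have := Fintype.one_lt_card (α := F); rw [hF, h] at this; simp at this
        obtain ⟨g, rfl⟩ := Nat.exists_eq_succ_of_ne_zero hf
        rw [hF, pow_succ]; simp
      by_contra hne
      have := FiniteField.odd_card_of_char_ne_two hne
      omega
  suffices H : r = 2 → p ≠ 2 →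
      ((Odd m ∧ p ^ (f / 2) % 4 = 1) →
        Cfsg.splitClassCount ((K0 m F).map simAut) (Cfsg.Inn (POmega F ⇑(plusForm m F))) (fieldAut σ) = 2) ∧
      (¬ (Odd m ∧ p ^ (f / 2) % 4 = 1) →
        Cfsg.splitClassCount ((K0 m F).map simAut) (Cfsg.Inn (POmega F ⇑(plusForm m F))) (fieldAut σ) = 4) from
    ⟨fun h => (H h.1 h.2.1).1 h.2.2, fun h => (H h.1 h.2.1).2 h.2.2⟩
  intro hr2 hp2
  rw [hr2] at hF₀ hrf
  have hcard : Fintype.card F = Fintype.card F₀ ^ 2 := by
    rw [hF, hF₀, ← pow_mul, Nat.div_mul_cancel hrf]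
  obtain ⟨k, h₀⟩ : Odd (Fintype.card F₀) := by rw [hF₀]; exact (hp.odd_of_ne_two hp2).pow
  have hodd : Odd (Fintype.card F) := by rw [hcard, h₀]; exact (odd_two_mul_add_one k).pow
  have h4 : Fintype.card F % 4 = 1 := by
    rw [hcard, h₀, show (2 * k + 1) ^ 2 = 4 * (k * (k + 1)) + 1 by ring]
    omega
  rw [← hF₀, h₀]
  obtain ⟨c4, c2⟩ := count_quadratic ι σ hι hι' hodd hm3 h4 (isSquare_fixed ι h₀ hcard)
  refine ⟨fun ⟨hmo, hk⟩ => c2 ?_, fun h => c4 fun c s hs => ?_⟩
  · obtain ⟨ν, hns⟩ := FiniteField.exists_nonsquare (ringChar₀_ne_two (F₀ := F₀) h₀)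
    have hν : ν ≠ 0 := fun h => hns (h ▸ IsSquare.zero)
    obtain ⟨t, ht⟩ := isSquare_fixed ι h₀ hcard (Units.mk0 ν hν)
    have ht0 : t ≠ 0 := fun h => hν (ι.injective (by rw [Units.val_mk0] at ht; rw [ht, h, mul_zero, map_zero]))
    refine ⟨Units.mk0 ν hν, Units.mk0 t ht0, ht.symm, ?_⟩
    rw [(sqSign_root ι h₀ hcard _ _ ht.symm).2 (Nat.even_iff.mpr (by omega)) hns, hmo.neg_one_pow]
  · rcases Nat.even_or_odd m with he | ho
    · rcases Int.units_eq_one_or (sqSign s) with h1 | h1 <;> rw [h1]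
      · exact one_pow m
      · exact he.neg_one_pow
    · rw [(sqSign_root ι h₀ hcard c s hs).1 (Nat.odd_iff.mpr (by
        have := not_and.mp h ho
        omega)), one_pow]

end CfsgLib.FieldAutPlus
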