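import Cfsg.Agent.Lib.Descent.POmegaField
import Cfsg.Agent.Lib.AutPOmega.Semi

/-!
The kernel of the action of the semilinear similarities on the projective commutator group of a form with
Witt index at least three: `simAut g * fieldAut σ = 1` forces `σ = 1` and `g` scalar.
-/

set_option autoImplicit false
set_option maxHeartbeats 1000000
set_option linter.style.haveILetI false
set_option linter.unusedSectionVars false

namespace CfsgLib.FieldAutPlus

open Matrix QuadraticMap Module Cfsg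
open CfsgLib.Classical.Quad CfsgLib.AutPOmega
open CfsgLib.PGOQuot (simG simAut)
open CfsgLib.Descent (invAut fieldAut)

variable {F : Type*} [Field F] {ι : Type} [Fintype ι] [DecidableEq ι]
variable {W : Type*} [AddCommGroup W] [Module F W] [FiniteDimensional F W] {m : ℕ}
variable {Q : QuadraticForm F (ι → F)} {R : QuadraticForm F W}

/-- A semilinear similarity, read in the model. -/
noncomputable def modelSemi (e : (ι → F) ≃ₗ[F] Vm F m W) (he : ∀ v, hypForm m R (e v) = Q v)
    (σ : ↥(invAut Q)) (g : GL ι F) (μ : Fˣ)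
    (hμ : ∀ v, Q ((g : Matrix ι ι F) *ᵥ v) = (μ : F) * Q v) : SemiSim (hypForm m R) where
  σ := (σ : F ≃+* F)
  s := μ
  s_ne := μ.ne_zero
  Φ :=
    { toFun := fun x => e ((g : Matrix ι ι F) *ᵥ fun i => (σ : F ≃+* F) (e.symm x i))
      invFun := fun x => e fun i => (σ : F ≃+* F).symm (((((g⁻¹ : GL ι F)) : Matrix ι ι F) *ᵥ e.symm x) i)
      left_inv := fun x => by
        simp [Matrix.mulVec_mulVec]
      right_inv := fun x => by
        simp [Matrix.mulVec_mulVec]
      map_add' := fun x y => by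
        rw [← map_add e, ← Matrix.mulVec_add]
        congr 2
        funext i
        simp }
  map_smul := fun c x => by
    show e ((g : Matrix ι ι F) *ᵥ fun i => (σ : F ≃+* F) (e.symm (c • x) i)) =
      (σ : F ≃+* F) c • e ((g : Matrix ι ι F) *ᵥ fun i => (σ : F ≃+* F) (e.symm x i))
    rw [← _root_.map_smul e, ← Matrix.mulVec_smul]
    congr 2
    funext i
    simp
  quad := fun x => by
    show hypForm m R (e ((g : Matrix ι ι F) *ᵥ fun i => (σ : F ≃+* F) (e.symm x i))) = _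
    rw [he, hμ, σ.2, ← he, e.apply_symm_apply]

theorem modelSemi_apply (e : (ι → F) ≃ₗ[F] Vm F m W) (he : ∀ v, hypForm m R (e v) = Q v)
    (σ : ↥(invAut Q)) (g : GL ι F) (μ : Fˣ)
    (hμ : ∀ v, Q ((g : Matrix ι ι F) *ᵥ v) = (μ : F) * Q v) (v : ι → F) :
    (modelSemi e he σ g μ hμ).Φ (e v) = e ((g : Matrix ι ι F) *ᵥ fun i => (σ : F ≃+* F) (v i)) := by
  show e ((g : Matrix ι ι F) *ᵥ fun i => (σ : F ≃+* F) (e.symm (e v) i)) = _
  rw [e.symm_apply_apply]

/-- In the model, a semilinear similarity acts by conjugation with `modelSemi`. -/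
theorem model_conj [Fintype F] (e : (ι → F) ≃ₗ[F] Vm F m W) (he : ∀ v, hypForm m R (e v) = Q v)
    (hR : NDPolar R) (hm : 3 ≤ m) (g : ↥(simG Q)) (σ : ↥(invAut Q)) (μ : Fˣ)
    (hμ : ∀ v, Q (((g : GL ι F) : Matrix ι ι F) *ᵥ v) = (μ : F) * Q v) (y : POmega F ⇑Q) :
    pomegaEquiv e he (ndPolar_hypForm hR m) (frame R hm)
        ((simAut g * fieldAut σ : MulAut (POmega F ⇑Q)) y) =
      (modelSemi e he σ g μ hμ).conjPS (ndPolar_hypForm hR m) (frame R hm)
        (pomegaEquiv e he (ndPolar_hypForm hR m) (frame R hm) y) := by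
  set T := modelSemi e he σ g μ hμ with hT
  induction y using QuotientGroup.induction_on with
  | _ s =>
  rw [MulAut.mul_apply, CfsgLib.Descent.fieldAut_mk, CfsgLib.PGOQuot.simAut_mk]
  rw [pomegaEquiv_mk, pomegaEquiv_mk, SemiSim.conjPS_mk]
  congr 1
  refine Subtype.ext (orth_ext fun x => ?_)
  obtain ⟨y, rfl⟩ := T.Φ.surjective x
  obtain ⟨v, rfl⟩ := e.surjective y
  show (isometryEquivModel e he (CfsgLib.PGOQuot.conjOmega g (CfsgLib.Descent.fieldOmega σ s)).1).1 (T.Φ (e v)) =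
    T.Φ ((isometryEquivModel e he s.1).1 (T.Φ.symm (T.Φ (e v))))
  rw [T.Φ.symm_apply_apply, isometryEquivModel_apply, hT, modelSemi_apply, modelSemi_apply,
    isometryEquivModel_apply, CfsgLib.PGOQuot.conjOmega_coe, CfsgLib.Descent.fieldOmega_coe,
    Units.val_mul, Units.val_mul, Matrix.mulVec_mulVec, Matrix.mul_assoc _ _ ((g : GL ι F) : Matrix ι ι F),
    Units.inv_mul, Matrix.mul_one, ← Matrix.mulVec_mulVec, CfsgLib.Descent.mapGL_coe,
    ← CfsgLib.Descent.map_mulVec_apply]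

/-- Only the scalars act trivially. -/
theorem semilinear_eq_one [Fintype F] (e : (ι → F) ≃ₗ[F] Vm F m W) (he : ∀ v, hypForm m R (e v) = Q v)
    (hR : NDPolar R) (hm : 3 ≤ m) {g : ↥(simG Q)} {σ : ↥(invAut Q)}
    (h : (simAut g * fieldAut σ : MulAut (POmega F ⇑Q)) = 1) :
    σ = 1 ∧ ∃ c : Fˣ, (g : GL ι F) = CfsgLib.PGOQuot.scal c := by
  obtain ⟨p, hp⟩ := CharP.exists F
  haveI : Fact p.Prime := ⟨CharP.char_is_prime F p⟩
  have hnd := ndPolar_hypForm hR m
  obtain ⟨μ, hμ⟩ := g.2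
  set T := modelSemi e he σ g μ hμ with hT
  have hker : T ∈ (SemiSim.conjHom hnd (frame R hm)).ker := by
    rw [MonoidHom.mem_ker]
    refine MulEquiv.ext fun x => ?_
    obtain ⟨y, rfl⟩ := (pomegaEquiv e he hnd (frame R hm)).surjective x
    rw [SemiSim.conjHom_apply, hT, ← model_conj e he hR hm g σ μ hμ y, h, MulAut.one_apply, MulAut.one_apply]
  rw [conjHom_ker hR hm p] at hker
  obtain ⟨c, hc⟩ := hker
  have hσ : σ = 1 := Subtype.ext (congrArg SemiSim.σ hc).symm
  refine ⟨hσ, c, CfsgLib.PGOQuot.gl_ext fun v => e.injective ?_⟩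
  have h2 : T.Φ (e v) = (c : F) • e v := by rw [← hc, SemiSim.scal_Φ]
  rw [hT, modelSemi_apply, hσ] at h2
  rw [CfsgLib.PGOQuot.scal_mulVec, _root_.map_smul, ← h2]
  rfl

end CfsgLib.FieldAutPlus
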