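import Cfsg.Agent.Lib.AutPOmega.Main

/-!
An automorphism of the central quotient that moves each commuting pair of line root groups like an isometry
is induced by a semisimilarity, whatever the dimension.
-/

set_option autoImplicit false
set_option linter.unusedSectionVars false
set_option maxHeartbeats 3200000

namespace CfsgLib.FieldAutPlus

open QuadraticMap Module CfsgLib.Classical.Quad CfsgLib.AutPOmega

variable {F W : Type*} [Field F] [AddCommGroup W] [Module F W] [FiniteDimensional F W] {m : ℕ}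
variable {R : QuadraticForm F W} [Fintype F] (hR : NDPolar R) (hm : 3 ≤ m)
include hR hm

local notation "𝐐" => hypForm m R

/-- A permutation of lines preserving incidence comes from a map of the singular points. -/
theorem exists_ptAut_of_meet (τ : LinePerm 𝐐)
    (hmeet : ∀ L M, Meet (τ.π L).1 (τ.π M).1 ↔ Meet L.1 M.1)
    (hperp : ∀ L M, Perp 𝐐 (τ.π L).1 (τ.π M).1 ↔ Perp 𝐐 L.1 M.1) :
    ∃ f : Vm F m W → Vm F m W, PtAut 𝐐 f ∧
      ∀ x, x ≠ 0 → 𝐐 x = 0 → ∀ N : Ln 𝐐, x ∈ N.1 ↔ f x ∈ (τ.π N).1 := by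
  have hex : ∀ u : Vm F m W, ∃ u', u ≠ 0 → 𝐐 u = 0 →
      u' ≠ 0 ∧ 𝐐 u' = 0 ∧ ∀ N : Ln 𝐐, u ∈ N.1 ↔ u' ∈ (τ.π N).1 := by
    intro u
    by_cases hu : u ≠ 0 ∧ 𝐐 u = 0
    swap
    · exact ⟨0, fun h1 h2 => absurd ⟨h1, h2⟩ hu⟩
    obtain ⟨L, M, huL, huM, hnp, huniq⟩ := exists_bent hR hm u hu.1 hu.2
    obtain ⟨x, a, b, hx0, hxL, hxM, hLs, hMs, hab⟩ := bent_data ⟨u, hu.1, huL, huM⟩ hnp
    obtain ⟨c, hc⟩ := huniq x hxL hxM
    have hc0 : c ≠ 0 := fun h => hx0 (by rw [hc, h, zero_smul])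
    obtain ⟨x', a', b', hx'0, hx'L, hx'M, hLs', hMs', hab'⟩ := bent_data
      ((hmeet L M).2 ⟨u, hu.1, huL, huM⟩)
      (fun h => hnp ((hperp L M).1 h))
    refine ⟨x', fun _ _ => ⟨hx'0, (τ.π L).2.sing hx'L, fun N => ?_⟩⟩
    rw [mem_iff_meet_bent hx'0 hx'L hx'M hLs' hMs' hab', hmeet,
      hmeet, ← mem_iff_meet_bent hx0 hxL hxM hLs hMs hab, hc]
    exact (N.1.smul_mem_iff hc0).symm
  choose f hf using hex
  have hline : ∀ x y, LinearIndependent F ![x, y] → 𝐐 x = 0 → 𝐐 y = 0 → polar 𝐐 x y = 0 →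
      ∃ N : Ln 𝐐, x ∈ N.1 ∧ y ∈ N.1 ∧ N.1 = Submodule.span F {x, y} := fun x y hind hx hy hxy =>
    ⟨⟨_, isLine_span hind hx hy hxy⟩, Submodule.subset_span (Set.mem_insert _ _),
      Submodule.subset_span (Set.mem_insert_of_mem _ rfl), rfl⟩
  have hindep : ∀ x y : Vm F m W, x ≠ 0 → (¬ ∃ c : F, y = c • x) → LinearIndependent F ![x, y] :=
    fun x y hx h => by
      rw [LinearIndependent.pair_iff' hx]
      exact fun r hr => h ⟨r, hr.symm⟩
  have heqv : ∀ x y, x ≠ 0 → 𝐐 x = 0 → y ≠ 0 → 𝐐 y = 0 →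
      ((∃ c : F, f y = c • f x) ↔ ∃ c : F, y = c • x) := by
    intro x y hx hQx hy hQy
    obtain ⟨hfx, hQfx, hNx⟩ := hf x hx hQx
    obtain ⟨hfy, hQfy, hNy⟩ := hf y hy hQy
    constructor
    · rintro ⟨c, hc⟩
      have hc0 : c ≠ 0 := fun h => hfy (by rw [hc, h, zero_smul])
      obtain ⟨L, M, hL, hM, -, huniq⟩ := exists_bent hR hm x hx hQx
      have h : ∀ N : Ln 𝐐, x ∈ N.1 → y ∈ N.1 := fun N h => by
        rw [hNy, hc]
        exact (τ.π N).1.smul_mem c ((hNx N).1 h)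
      exact huniq y (h L hL) (h M hM)
    · rintro ⟨c, hc⟩
      obtain ⟨L, M, hL, hM, -, huniq⟩ := exists_bent hR hm (f x) hfx hQfx
      obtain ⟨L', rfl⟩ := τ.π.surjective L
      obtain ⟨M', rfl⟩ := τ.π.surjective M
      refine huniq (f y) ((hNy L').1 ?_) ((hNy M').1 ?_)
      · rw [hc]; exact L'.1.smul_mem c ((hNx L').2 hL)
      · rw [hc]; exact M'.1.smul_mem c ((hNx M').2 hM)
  refine ⟨f, ⟨fun x hx hQ => (hf x hx hQ).2.1, fun x hx hQ => (hf x hx hQ).1, heqv, ?_, ?_⟩,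
    fun x hx hQ => (hf x hx hQ).2.2⟩
  · intro x y hx hQx hy hQy
    obtain ⟨hfx, hQfx, hNx⟩ := hf x hx hQx
    obtain ⟨hfy, hQfy, hNy⟩ := hf y hy hQy
    by_cases hp : ∃ c : F, y = c • x
    · obtain ⟨d, hd⟩ := (heqv x y hx hQx hy hQy).2 hp
      obtain ⟨c, hc⟩ := hp
      rw [hd, hc]
      simp [polar_singular_self hQfx, polar_singular_self hQx]
    constructor
    · intro h
      obtain ⟨K, hK1, hK2, -⟩ := hline _ _ (hindep _ _ hfx
        (fun h' => hp ((heqv x y hx hQx hy hQy).1 h'))) hQfx hQfy h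
      obtain ⟨N, rfl⟩ := τ.π.surjective K
      exact N.2.perp ((hNx N).2 hK1) ((hNy N).2 hK2)
    · intro h
      obtain ⟨N, hN1, hN2, -⟩ := hline _ _ (hindep _ _ hx hp) hQx hQy h
      exact (τ.π N).2.perp ((hNx N).1 hN1) ((hNy N).1 hN2)
  · intro x y hind hQx hQy hxy a b hne
    have hx : x ≠ 0 := hind.ne_zero 0
    have hy : y ≠ 0 := hind.ne_zero 1
    obtain ⟨hfx, hQfx, hNx⟩ := hf x hx hQx
    obtain ⟨hfy, hQfy, hNy⟩ := hf y hy hQy
    obtain ⟨N, hN1, hN2, -⟩ := hline _ _ hind hQx hQy hxy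
    have hz : a • x + b • y ∈ N.1 := N.1.add_mem (N.1.smul_mem a hN1) (N.1.smul_mem b hN2)
    have hQz := N.2.sing hz
    have hind' : LinearIndependent F ![f x, f y] := hindep _ _ hfx fun h => by
      obtain ⟨c, hc⟩ := (heqv x y hx hQx hy hQy).1 h
      exact (LinearIndependent.pair_iff' hx).1 hind c hc.symm
    rw [← (τ.π N).2.eq_span ((hNx N).1 hN1) ((hNy N).1 hN2) hind']
    exact ((hf _ hne hQz).2.2 N).1 hz

/-- The criterion. -/
theorem exists_semiSim_of_pairs (hRan : ∀ w, R w = 0 → w = 0) (p : ℕ) [Fact p.Prime] [CharP F p]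
    (β : MulAut (POm 𝐐))
    (hpair : ∀ L M : Ln 𝐐, L ≠ M → CC L M → ¬ AA L M → ∃ g : Orth 𝐐,
      (rbar 𝐐 L.1).map β.toMonoidHom = rbar 𝐐 (L.1.map (g.1 : Vm F m W →ₗ[F] Vm F m W)) ∧
      (rbar 𝐐 M.1).map β.toMonoidHom = rbar 𝐐 (M.1.map (g.1 : Vm F m W →ₗ[F] Vm F m W))) :
    ∃ T : SemiSim (hypForm m R), β = T.conjPS (ndPolar_hypForm hR m) (frame R hm) := by
  have hnd := ndPolar_hypForm hR m
  obtain ⟨τ, hτ⟩ := exists_linePerm hR hm p β
  have himage : ∀ L M : Ln 𝐐, L ≠ M → CC L M → ¬ AA L M →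
      (Meet (τ.π L).1 (τ.π M).1 ↔ Meet L.1 M.1) ∧ (Perp 𝐐 (τ.π L).1 (τ.π M).1 ↔ Perp 𝐐 L.1 M.1) := by
    intro L M h1 h2 h3
    obtain ⟨g, hgL, hgM⟩ := hpair L M h1 h2 h3
    rw [rbar_injective hnd (frame R hm) p (τ.π L).2 (L.2.map g) ((hτ L).symm.trans hgL),
      rbar_injective hnd (frame R hm) p (τ.π M).2 (M.2.map g) ((hτ M).symm.trans hgM)]
    constructor
    · constructor
      · rintro ⟨x, hx, ⟨a, ha, rfl⟩, ⟨b, hb, hba⟩⟩
        obtain rfl : b = a := g.1.injective hba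
        exact ⟨b, fun h => hx (by rw [h, map_zero]), ha, hb⟩
      · rintro ⟨x, hx, ha, hb⟩
        exact ⟨g.1 x, fun h => hx (g.1.map_eq_zero_iff.1 h), ⟨x, ha, rfl⟩, ⟨x, hb, rfl⟩⟩
    · constructor
      · intro h x hx y hy
        rw [← orth_polar g]
        exact h _ ⟨x, hx, rfl⟩ _ ⟨y, hy, rfl⟩
      · rintro h _ ⟨x, hx, rfl⟩ _ ⟨y, hy, rfl⟩
        show polar 𝐐 (g.1 x) (g.1 y) = 0
        rw [orth_polar]
        exact h x hx y hy
  have hkey : ∀ L M : Ln 𝐐,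
      (Meet (τ.π L).1 (τ.π M).1 ↔ Meet L.1 M.1) ∧ (Perp 𝐐 (τ.π L).1 (τ.π M).1 ↔ Perp 𝐐 L.1 M.1) := by
    intro L M
    by_cases h1 : L = M
    · subst h1
      have hm' : ∀ N : Ln 𝐐, Meet N.1 N.1 ∧ Perp 𝐐 N.1 N.1 := fun N => by
        obtain ⟨u, w, hind, -, -, -, hs⟩ := id N.2
        exact ⟨⟨u, hind.ne_zero 0, hs ▸ Submodule.subset_span (Set.mem_insert _ _),
          hs ▸ Submodule.subset_span (Set.mem_insert _ _)⟩, fun x hx y hy => N.2.perp hx hy⟩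
      exact ⟨iff_of_true (hm' _).1 (hm' _).1, iff_of_true (hm' _).2 (hm' _).2⟩
    by_cases h2 : CC L M
    swap
    · have h2' : ¬ CC (τ.π L) (τ.π M) := fun h => h2 ((τ.cc L M).1 h)
      exact ⟨iff_of_false (fun h => h2' (Or.inl h)) (fun h => h2 (Or.inl h)),
        iff_of_false (fun h => h2' (Or.inr h)) (fun h => h2 (Or.inr h))⟩
    by_cases h3 : AA L M
    · have h3' := (τ.aa L M).2 h3
      exact ⟨iff_of_true h3'.2.1 h3.2.1, iff_of_true h3'.2.2 h3.2.2⟩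
    exact himage L M h1 h2 h3
  obtain ⟨f, hf, hfl⟩ := exists_ptAut_of_meet hR hm τ (fun L M => (hkey L M).1) (fun L M => (hkey L M).2)
  have : Finite W := Module.finite_of_finite F
  obtain ⟨σ, s, Φ, hs, hsmul, hquad, himg⟩ := exists_semisimilarity hm hR hRan hf
  let T : SemiSim 𝐐 := ⟨σ, s, hs, Φ, hsmul, hquad⟩
  refine ⟨T, ?_⟩
  set γ := T.conjPS hnd (frame R hm)
  suffices γ⁻¹ * β = 1 by
    exact (inv_mul_eq_one.1 this).symm
  refine eq_one_of_fix_rbar hR hm p _ fun L hL => ?_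
  obtain ⟨u, w, hind, hu, hw, huw, hs'⟩ := id hL
  have key : (τ.π ⟨L, hL⟩).1 = T.mapSub L := by
    conv_rhs => rw [hs', T.mapSub_span]
    refine (τ.π ⟨L, hL⟩).2.eq_span ?_ ?_ (T.li_map hind)
    · obtain ⟨c, hc, hfx⟩ := himg u (hind.ne_zero 0) hu
      have h1 := (hfl u (hind.ne_zero 0) hu ⟨L, hL⟩).1
        (show u ∈ L from hs' ▸ Submodule.subset_span (Set.mem_insert _ _))
      rw [hfx] at h1
      exact (Submodule.smul_mem_iff _ hc).1 h1
    · obtain ⟨c, hc, hfx⟩ := himg w (hind.ne_zero 1) hw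
      have h1 := (hfl w (hind.ne_zero 1) hw ⟨L, hL⟩).1
        (show w ∈ L from hs' ▸ Submodule.subset_span (Set.mem_insert_of_mem _ rfl))
      rw [hfx] at h1
      exact (Submodule.smul_mem_iff _ hc).1 h1
  have h1 := hτ ⟨L, hL⟩
  rw [key, ← T.map_rbar hnd (frame R hm) hL] at h1
  rw [show (γ⁻¹ * β).toMonoidHom = (γ⁻¹).toMonoidHom.comp β.toMonoidHom from rfl,
    ← Subgroup.map_map, h1, Subgroup.map_map]
  convert Subgroup.map_id _
  exact MonoidHom.ext fun x => γ.symm_apply_apply x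


end CfsgLib.FieldAutPlus
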