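import Cfsg.Agent.Lib.FieldAutPlus.Coset
import Cfsg.Agent.Lib.AutPOmega.Transfer

/-!
Normal forms of field and graph-field automorphisms of the split projective group, and conjugacy in their cosets
modulo the inner-diagonal automorphisms, in dimension at least ten.
-/

set_option autoImplicit false
set_option linter.unusedSectionVars false
set_option maxHeartbeats 400000

namespace CfsgLib.FieldAutPlus

open Matrix QuadraticMap Module Cfsg
open CfsgLib.OrthCrit (plusForm)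
open CfsgLib.PGOQuot (simG simAut scal)
open CfsgLib.Descent (invAut fieldAut simMap iterGL iterGL_mem pow_coset)

variable {F : Type*} [Field F] [Fintype F] {m : ℕ}

theorem eq_conj_of_conj {X : Type*} [Group X] {a x y : X} (h : a * x * a⁻¹ = y) : x = a⁻¹ * y * a⁻¹⁻¹ := by
  rw [← h]; group

theorem par_iter (g : ↥(simG (plusForm m F))) (σ : ↥(invAut (plusForm m F))) (k : ℕ) :
    par (⟨_, iterGL_mem g σ k⟩ : ↥(simG (plusForm m F))) = par g ^ k := by
  induction k with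
  | zero => rw [pow_zero]; exact map_one par
  | succ k ih =>
    have h : (⟨_, iterGL_mem g σ (k + 1)⟩ : ↥(simG (plusForm m F))) = g * simMap σ ⟨_, iterGL_mem g σ k⟩ := rfl
    rw [h, map_mul, par_simMap, ih, pow_succ']

/-- The order of the field part and the parity of a coset element of prime order. -/
theorem order_parts (hm : 3 ≤ m) {g : ↥(simG (plusForm m F))} {σ : ↥(invAut (plusForm m F))} (hσ : σ ≠ 1)
    {r : ℕ} (hr : r.Prime) (hy : (simAut g * fieldAut σ : MulAut (POmega F ⇑(plusForm m F))) ^ r = 1) :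
    orderOf (σ : F ≃+* F) = r ∧ (par g = Multiplicative.ofAdd 1 → r = 2) := by
  rw [pow_coset, ← map_pow] at hy
  obtain ⟨hσr, c, hc⟩ := semilinear_one hm hy
  haveI := Fact.mk hr
  refine ⟨?_, fun hg => ?_⟩
  · rw [Subgroup.orderOf_coe]
    exact orderOf_eq_prime hσr hσ
  · rcases hr.eq_two_or_odd' with h | h
    · exact h
    exfalso
    have h1 := par_iter g σ r
    rw [par_eq_par (g := ⟨_, iterGL_mem g σ r⟩) (h := 1) c (by rw [OneMemClass.coe_one, mul_one]; exact hc),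
      map_one (par (F := F) (m := m)), hg] at h1
    obtain ⟨k, rfl⟩ := h
    rw [pow_succ, pow_mul] at h1
    have h2 : (Multiplicative.ofAdd (1 : ZMod 2)) ^ 2 = 1 := by decide
    rw [h2, one_pow, one_mul] at h1
    exact absurd h1 (by decide)

/-- Conjugation by an automorphism, modulo the similarities. -/
theorem conj_semi (hm : 5 ≤ m) (α : MulAut (POmega F ⇑(plusForm m F))) (g₀ : ↥(simG (plusForm m F)))
    (σ : ↥(invAut (plusForm m F))) :
    ∃ (g : ↥(simG (plusForm m F))) (τ : ↥(invAut (plusForm m F))),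
      (α * (simAut g₀ * fieldAut σ) * α⁻¹ : MulAut (POmega F ⇑(plusForm m F))) =
        simAut g * (simAut (simMap τ g₀) * fieldAut σ) * (simAut g)⁻¹ := by
  obtain ⟨g, τ, hα⟩ := CfsgLib.Descent.exists_decomp invAut_eq_top
    (CfsgLib.AutPOmega.gammaPOmega_plus_eq_top (F := F) hm) α
  have hcomm : τ * σ = σ * τ := Subtype.ext (CfsgLib.AutPSL.ringAut_comm _ _)
  refine ⟨g, τ, ?_⟩
  rw [hα]
  calc simAut g * fieldAut τ * (simAut g₀ * fieldAut σ) * (simAut g * fieldAut τ)⁻¹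
      = simAut g * ((fieldAut τ * simAut g₀) * fieldAut σ * (fieldAut τ)⁻¹) * (simAut g)⁻¹ := by group
    _ = simAut g * (simAut (simMap τ g₀) * (fieldAut τ * fieldAut σ) * (fieldAut τ)⁻¹) * (simAut g)⁻¹ := by
        rw [CfsgLib.Descent.fieldAut_simAut]; group
    _ = _ := by rw [← map_mul, hcomm, map_mul]; group

/-- A conjugating similarity may be chosen of parity zero. -/
theorem adjust_par {σ : ↥(invAut (plusForm m F))} {g₀ g : ↥(simG (plusForm m F))} (hm : 1 ≤ m)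
    (hg₀ : g₀ = 1 ∨ ∃ (v : Fin m ⊕ Fin m → F) (hv : Cfsg.quadFormPlus m F v ≠ 0),
      (∀ i, (σ : F ≃+* F) (v i) = v i) ∧ g₀ = refl hv) :
    ∃ g' ∈ K0 m F, (simAut g * (simAut g₀ * fieldAut σ) * (simAut g)⁻¹ : MulAut (POmega F ⇑(plusForm m F))) =
      simAut g' * (simAut g₀ * fieldAut σ) * (simAut g')⁻¹ := by
  rcases par_cases g with h0 | h1
  · exact ⟨g, mem_K0.mpr h0, rfl⟩
  obtain ⟨v, hv, hfix, hcomm⟩ : ∃ (v : Fin m ⊕ Fin m → F) (hv : Cfsg.quadFormPlus m F v ≠ 0),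
      (∀ i, (σ : F ≃+* F) (v i) = v i) ∧ g₀ * refl hv = refl hv * g₀ := by
    rcases hg₀ with rfl | ⟨v, hv, hfix, rfl⟩
    · obtain ⟨v, hv, hfix⟩ := exists_fixed_vec (F := F) hm
      exact ⟨v, hv, hfix _, by rw [one_mul, mul_one]⟩
    · exact ⟨v, hv, hfix, rfl⟩
  refine ⟨g * refl hv, mem_K0.mpr (by rw [map_mul, h1, par_refl]; decide), ?_⟩
  have hc : (simAut g₀ * fieldAut σ * simAut (refl hv) : MulAut (POmega F ⇑(plusForm m F))) =
      simAut (refl hv) * (simAut g₀ * fieldAut σ) := by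
    rw [mul_assoc, CfsgLib.Descent.fieldAut_simAut, simMap_refl σ hv hfix, ← mul_assoc, ← map_mul, hcomm, map_mul,
      mul_assoc]
  rw [map_mul, mul_assoc (simAut g) (simAut (refl hv)), ← hc]
  group

/-- Normal form of a field automorphism. -/
theorem field_normal (hm : 5 ≤ m) {x : MulAut (POmega F ⇑(plusForm m F))}
    (hx : IsFieldAutClassPOmega (⇑(plusForm m F)) x) {r : ℕ} (hxr : orderOf x = r) :
    ∃ g ∈ K0 m F, ∃ σ : ↥(invAut (plusForm m F)), orderOf (σ : F ≃+* F) = r ∧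
      x = simAut g * (simAut 1 * fieldAut σ) * (simAut g)⁻¹ := by
  obtain ⟨g, σ, hσ, he⟩ := CfsgLib.Descent.normal_form invAut_eq_top
    (CfsgLib.AutPOmega.gammaPOmega_plus_eq_top (F := F) hm) (fieldAut_inj (by omega)) hx hxr
  obtain ⟨g', hg', he'⟩ := adjust_par (σ := σ) (g₀ := 1) (g := g) (by omega) (Or.inl rfl)
  refine ⟨g', hg', σ, hσ, ?_⟩
  rw [← he', map_one, one_mul]
  exact he

/-- Normal form of a graph-field automorphism. -/
theorem graphField_normal (hm : 5 ≤ m) {x : MulAut (POmega F ⇑(plusForm m F))}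
    (hx : IsGraphFieldAutClassPOmegaPlus m x) {r : ℕ} (hr : r.Prime) (hxr : orderOf x = r) :
    ∃ g ∈ K0 m F, ∃ (σ : ↥(invAut (plusForm m F))) (v : Fin m ⊕ Fin m → F) (hv : Cfsg.quadFormPlus m F v ≠ 0),
      orderOf (σ : F ≃+* F) = r ∧ (∀ i, (σ : F ≃+* F) (v i) = v i) ∧
      x = simAut g * (simAut (refl hv) * fieldAut σ) * (simAut g)⁻¹ := by
  obtain ⟨α₀, γ₀, φ₀, σ, v, ρ, hσ1, hv, hfix, hρ, hγ, hφ, hconj₀⟩ := hx
  obtain ⟨α, hα₀⟩ : ∃ α : MulAut (POmega F ⇑(plusForm m F)), α = α₀ := ⟨α₀, rfl⟩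
  obtain ⟨γ, hγ₀⟩ : ∃ γ : MulAut (POmega F ⇑(plusForm m F)), γ = γ₀ := ⟨γ₀, rfl⟩
  obtain ⟨φ, hφ₀⟩ : ∃ φ : MulAut (POmega F ⇑(plusForm m F)), φ = φ₀ := ⟨φ₀, rfl⟩
  subst hα₀; subst hγ₀; subst hφ₀
  have hconj : α * x * α⁻¹ = γ * φ := hconj₀
  let σ' : ↥(invAut (plusForm m F)) := toInv σ
  have hρ' : ρ = ((refl hv : ↥(simG (plusForm m F))) : GL (Fin m ⊕ Fin m) F) := Units.ext hρ
  subst hρ'
  have e1 : γ = simAut (refl hv) := (CfsgLib.PGOQuot.induced_iff (refl hv) γ).mp hγ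
  have e2 : φ = fieldAut σ' := (CfsgLib.Descent.fieldAutOf_iff σ' φ).mp hφ
  obtain ⟨g, τ, hg⟩ := conj_semi hm α⁻¹ (refl hv) σ'
  have hx2 : x = simAut g * (simAut (simMap τ (refl hv)) * fieldAut σ') * (simAut g)⁻¹ := by
    rw [← hg, ← e1, ← e2]
    exact eq_conj_of_conj hconj
  set u := simMap τ (refl hv) with hu
  have hpu : par u = Multiplicative.ofAdd 1 := by rw [hu, par_simMap, par_refl]
  have hord : orderOf (simAut u * fieldAut σ' : MulAut (POmega F ⇑(plusForm m F))) = r := by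
    rw [← hxr, hx2, CfsgLib.AutPSL.orderOf_conj_eq]
  have hu1 : (simAut u * fieldAut σ' : MulAut (POmega F ⇑(plusForm m F))) ^ r = 1 := by
    rw [← hord]; exact pow_orderOf_eq_one _
  obtain ⟨hσr, hr2⟩ := order_parts (by omega) (σ := σ') (fun h => hσ1 (congrArg Subtype.val h)) hr hu1
  obtain rfl := hr2 hpu
  obtain ⟨v₀, hv₀, hfix₀⟩ := exists_fixed_vec (F := F) (m := m) (by omega)
  obtain ⟨h, -, hh⟩ := conj_K0 (by omega) hr hσr hu1 (reflCoset_pow hσr hv₀ (hfix₀ _)) (by rw [hpu, par_refl])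
    (Or.inr ⟨v₀, hv₀, hfix₀ _, rfl⟩)
  obtain ⟨g', hg', he'⟩ := adjust_par (σ := σ') (g₀ := refl hv₀) (g := g * h) (by omega)
    (Or.inr ⟨v₀, hv₀, hfix₀ _, rfl⟩)
  refine ⟨g', hg', σ', v₀, hv₀, hσr, hfix₀ _, ?_⟩
  rw [← he', hx2, hh, map_mul]
  group

/-- Coset conjugacy modulo the inner-diagonal automorphisms. -/
theorem coset_iff (hm : 3 ≤ m) {σ : ↥(invAut (plusForm m F))} {r : ℕ} (hr : r.Prime) (hσ : orderOf (σ : F ≃+* F) = r)
    {g₀ g : ↥(simG (plusForm m F))} (hg : g ∈ K0 m F)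
    (hg₀ : g₀ = 1 ∨ ∃ (v : Fin m ⊕ Fin m → F) (hv : Cfsg.quadFormPlus m F v ≠ 0),
      (∀ i, (σ : F ≃+* F) (v i) = v i) ∧ g₀ = refl hv)
    {x δ : MulAut (POmega F ⇑(plusForm m F))} (hxr : orderOf x = r)
    (hx : x = simAut g * (simAut g₀ * fieldAut σ) * (simAut g)⁻¹) (hδ : δ ∈ (K0 m F).map simAut) :
    orderOf (δ * x) = r ↔ IsConjUnder ((K0 m F).map simAut) x (δ * x) := by
  refine ⟨fun hy => ?_, fun h => ?_⟩
  swap
  · obtain ⟨a, -, ha⟩ := h
    rw [ha, CfsgLib.AutPSL.orderOf_conj_eq, hxr]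
  obtain ⟨d, hd, rfl⟩ := hδ
  have h0 : (simAut g₀ * fieldAut σ : MulAut (POmega F ⇑(plusForm m F))) ^ r = 1 := by
    rw [show r = orderOf (simAut g₀ * fieldAut σ : MulAut (POmega F ⇑(plusForm m F))) by
      rw [← hxr, hx, CfsgLib.AutPSL.orderOf_conj_eq]]
    exact pow_orderOf_eq_one _
  have he : (simAut (g⁻¹ * d * g * g₀) * fieldAut σ : MulAut (POmega F ⇑(plusForm m F))) =
      (simAut g)⁻¹ * (simAut d * x) * (simAut g)⁻¹⁻¹ := by
    rw [hx, map_mul, map_mul, map_mul, map_inv]; group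
  have h1 : (simAut (g⁻¹ * d * g * g₀) * fieldAut σ : MulAut (POmega F ⇑(plusForm m F))) ^ r = 1 := by
    rw [he, conj_pow, show (simAut d * x) ^ r = 1 by rw [← hy]; exact pow_orderOf_eq_one _]
    group
  have hp : par (g⁻¹ * d * g * g₀) = par g₀ := by
    rw [map_mul, map_mul, map_mul, map_inv, mem_K0.mp hg, mem_K0.mp hd, inv_one, one_mul, one_mul, one_mul]
  obtain ⟨h, hhK, hh⟩ := conj_K0 hm hr hσ h1 h0 hp hg₀
  refine ⟨simAut (g * h * g⁻¹), ⟨_, mul_mem (mul_mem hg hhK) (inv_mem hg), rfl⟩, ?_⟩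
  rw [hh] at he
  calc simAut d * x = simAut g * ((simAut g)⁻¹ * (simAut d * x) * (simAut g)⁻¹⁻¹) * (simAut g)⁻¹ := by group
    _ = simAut g * (simAut h * (simAut g₀ * fieldAut σ) * (simAut h)⁻¹) * (simAut g)⁻¹ := by rw [← he]
    _ = _ := by rw [hx, map_mul, map_mul, map_inv]; group

end CfsgLib.FieldAutPlus
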