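import Cfsg.Agent.Lib.FieldAutPlus.Transport
import Cfsg.Agent.Lib.FieldAutPlus.Normal
import Cfsg.Agent.Lib.AutPSp.Count

/-!
Every automorphism of the split projective group in dimension at least eight normalises the inner-diagonal
group. In dimension eight, where triality occurs, a generator is taken that centralises a root group of a
line: its conjugate moves commuting pairs of lines like inner automorphisms, so comes from a semisimilarity,
and centralises a root group, so comes from a class-preserving similarity.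
-/

set_option autoImplicit false
set_option linter.unusedSectionVars false
set_option linter.style.haveILetI false
set_option maxHeartbeats 3000000

namespace CfsgLib.FieldAutPlus

open Matrix QuadraticMap Module Cfsg
open CfsgLib.Classical.Quad CfsgLib.AutPOmega
open CfsgLib.OrthCrit (plusForm)
open CfsgLib.PGOQuot (simG simAut isoToSim)
open CfsgLib.Descent (invAut fieldAut simMap)

variable {F : Type*} [Field F] [Fintype F] {m : ℕ}

theorem li_coord {k l : Fin m ⊕ Fin m} (hkl : k ≠ l) (g : Orth (MQ m F)) :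
    LinearIndependent F ![g.1 (eP m F (Pi.single k 1)), g.1 (eP m F (Pi.single l 1))] := by
  rw [LinearIndependent.pair_iff]
  intro a b h
  rw [← map_smul, ← map_smul, ← map_smul, ← map_smul, ← map_add, ← map_add] at h
  have h' := (eP m F).map_eq_zero_iff.1 (g.1.map_eq_zero_iff.1 h)
  refine ⟨?_, ?_⟩
  · have := congrFun h' k; simpa [hkl] using this
  · have := congrFun h' l; simpa [Ne.symm hkl] using this

/-- A commuting pair of lines is moved by a class-preserving similarity like an inner automorphism. -/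
theorem pair_siegel (hm : 4 ≤ m) {d : ↥(simG (plusForm m F))} (hd : d ∈ K0 m F) (μ : Fˣ)
    (hμ : ∀ v, plusForm m F (((d : GL (Fin m ⊕ Fin m) F) : Matrix (Fin m ⊕ Fin m) (Fin m ⊕ Fin m) F) *ᵥ v) =
      (μ : F) * plusForm m F v) (L M : Ln (MQ m F)) (hCC : CC L M) (hAA : ¬ AA L M) (hne : L ≠ M) :
    ∃ s : Orth (MQ m F), s ∈ siegelGroup (MQ m F) ∧
      (modelSim d μ hμ).mapSub L.1 = L.1.map (s.1 : Vm F m (Fin 0 → F) →ₗ[F] Vm F m (Fin 0 → F)) ∧
      (modelSim d μ hμ).mapSub M.1 = M.1.map (s.1 : Vm F m (Fin 0 → F) →ₗ[F] Vm F m (Fin 0 → F)) := by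
  let a0 : Fin m := ⟨0, by omega⟩
  let a1 : Fin m := ⟨1, by omega⟩
  let a2 : Fin m := ⟨2, by omega⟩
  let a3 : Fin m := ⟨3, by omega⟩
  have h01 : a0 ≠ a1 := by simp [a0, a1]
  by_cases hmeet : Meet L.1 M.1
  · have hnp : ¬ Perp (MQ m F) L.1 M.1 := fun h => hAA ⟨hne, hmeet, h⟩
    obtain ⟨x, a, b, hx0, hxL, hxM, hLs, hMs, hab⟩ := bent_data hmeet hnp
    have haL : a ∈ L.1 := hLs ▸ Submodule.subset_span (Set.mem_insert_of_mem _ rfl)
    have hbM : b ∈ M.1 := hMs ▸ Submodule.subset_span (Set.mem_insert_of_mem _ rfl)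
    obtain ⟨g, hg0, hg1, hg2⟩ := exists_orth_bent ndPolar_zeroKernel h01 hx0 (L.2.sing hxL) (L.2.sing haL)
      (M.2.sing hbM) (L.2.perp hxL haL) (M.2.perp hxM hbM) hab
    obtain ⟨s, hs, hk⟩ := exists_siegel_lines (by omega) hd μ hμ g
    rw [← eP_single_inl] at hg0 hg1
    rw [← eP_single_inr] at hg2
    exact ⟨s, hs, hk (Sum.inl a0) (Sum.inl a1) L (hg0 ▸ hxL) (hg1 ▸ haL) (li_coord (by simp [h01]) g),
      hk (Sum.inl a0) (Sum.inr a1) M (hg0 ▸ hxM) (hg2 ▸ hbM) (li_coord (by simp) g)⟩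
  · have hp : Perp (MQ m F) L.1 M.1 := hCC.resolve_left hmeet
    obtain ⟨u, w, hind, hu, hw, huw, hLs⟩ := id L.2
    obtain ⟨u', w', hind', hu', hw', huw', hMs⟩ := id M.2
    have huL : u ∈ L.1 := hLs ▸ Submodule.subset_span (Set.mem_insert _ _)
    have hwL : w ∈ L.1 := hLs ▸ Submodule.subset_span (Set.mem_insert_of_mem _ rfl)
    have huM : u' ∈ M.1 := hMs ▸ Submodule.subset_span (Set.mem_insert _ _)
    have hwM : w' ∈ M.1 := hMs ▸ Submodule.subset_span (Set.mem_insert_of_mem _ rfl)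
    let f : Vm F m (Fin 0 → F) →ₗ[F] Vm F m (Fin 0 → F) :=
      { toFun := fun x => (x.1.1 a0 • u + x.1.1 a1 • w) + (x.1.1 a2 • u' + x.1.1 a3 • w')
        map_add' := fun x y => by simp only [Prod.fst_add, Pi.add_apply, add_smul]; abel
        map_smul' := fun c x => by simp [smul_add, smul_smul] }
    have hf : ∀ x, f x = (x.1.1 a0 • u + x.1.1 a1 • w) + (x.1.1 a2 • u' + x.1.1 a3 • w') := fun x => rfl
    let X : Submodule F (Vm F m (Fin 0 → F)) := Submodule.span F {ee a0, ee a1, ee a2, ee a3}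
    have hX : ∀ x ∈ X, ∃ c₀ c₁ c₂ c₃ : F, x = c₀ • ee a0 + c₁ • ee a1 + c₂ • ee a2 + c₃ • ee a3 := by
      intro x hx
      obtain ⟨c₀, z, hz, rfl⟩ := Submodule.mem_span_insert.1 hx
      obtain ⟨c₁, z', hz', rfl⟩ := Submodule.mem_span_insert.1 hz
      obtain ⟨c₂, c₃, rfl⟩ := Submodule.mem_span_pair.1 hz'
      exact ⟨c₀, c₁, c₂, c₃, by abel⟩
    have hcoord : ∀ (c₀ c₁ c₂ c₃ : F), f (c₀ • ee a0 + c₁ • ee a1 + c₂ • ee a2 + c₃ • ee a3) =
        (c₀ • u + c₁ • w) + (c₂ • u' + c₃ • w') := fun c₀ c₁ c₂ c₃ => by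
      rw [hf]
      simp [a0, a1, a2, a3]
    obtain ⟨g, hg⟩ := exists_orth_extend (ndPolar_hypForm ndPolar_zeroKernel m) X f
      (fun x hx => by
        obtain ⟨c₀, c₁, c₂, c₃, rfl⟩ := hX x hx
        rw [hcoord]
        have p1 : c₀ • u + c₁ • w ∈ L.1 := L.1.add_mem (L.1.smul_mem _ huL) (L.1.smul_mem _ hwL)
        have p2 : c₂ • u' + c₃ • w' ∈ M.1 := M.1.add_mem (M.1.smul_mem _ huM) (M.1.smul_mem _ hwM)
        rw [QuadraticMap.map_add (MQ m F), L.2.sing p1, M.2.sing p2, hp _ p1 _ p2]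
        simp [QuadraticMap.map_add (MQ m F), QuadraticMap.map_smul, Q_ee, polar_ee_right])
      (fun x hx h0 => by
        obtain ⟨c₀, c₁, c₂, c₃, rfl⟩ := hX x hx
        rw [hcoord] at h0
        have p1 : c₀ • u + c₁ • w ∈ L.1 := L.1.add_mem (L.1.smul_mem _ huL) (L.1.smul_mem _ hwL)
        have p2 : c₂ • u' + c₃ • w' ∈ M.1 := M.1.add_mem (M.1.smul_mem _ huM) (M.1.smul_mem _ hwM)
        have hz : c₀ • u + c₁ • w = 0 := by
          by_contra hne0
          refine hmeet ⟨_, hne0, p1, ?_⟩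
          rw [eq_neg_of_add_eq_zero_left h0]
          exact M.1.neg_mem p2
        rw [hz, zero_add] at h0
        obtain ⟨r1, r2⟩ := LinearIndependent.pair_iff.1 hind _ _ hz
        obtain ⟨r3, r4⟩ := LinearIndependent.pair_iff.1 hind' _ _ h0
        simp [r1, r2, r3, r4])
    have hmem : ∀ i ∈ ({a0, a1, a2, a3} : Set (Fin m)), (ee i : Vm F m (Fin 0 → F)) ∈ X := by
      rintro i (rfl | rfl | rfl | rfl) <;> exact Submodule.subset_span (by simp)
    have g0 : g.1 (eP m F (Pi.single (Sum.inl a0) 1)) = u := by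
      rw [eP_single_inl, hg _ (hmem _ (by simp)), hf]; simp [a0, a1, a2, a3]
    have g1 : g.1 (eP m F (Pi.single (Sum.inl a1) 1)) = w := by
      rw [eP_single_inl, hg _ (hmem _ (by simp)), hf]; simp [a0, a1, a2, a3]
    have g2 : g.1 (eP m F (Pi.single (Sum.inl a2) 1)) = u' := by
      rw [eP_single_inl, hg _ (hmem _ (by simp)), hf]; simp [a0, a1, a2, a3]
    have g3 : g.1 (eP m F (Pi.single (Sum.inl a3) 1)) = w' := by
      rw [eP_single_inl, hg _ (hmem _ (by simp)), hf]; simp [a0, a1, a2, a3]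
    obtain ⟨s, hs, hk⟩ := exists_siegel_lines (by omega) hd μ hμ g
    exact ⟨s, hs, hk (Sum.inl a0) (Sum.inl a1) L (g0 ▸ huL) (g1 ▸ hwL) (li_coord (by simp [h01]) g),
      hk (Sum.inl a2) (Sum.inl a3) M (g2 ▸ huM) (g3 ▸ hwM) (li_coord (by simp [a2, a3]) g)⟩

theorem map_mul_hom {G : Type*} [Group G] (a b : MulAut G) (H : Subgroup G) :
    H.map (a * b).toMonoidHom = (H.map b.toMonoidHom).map a.toMonoidHom := by
  rw [Subgroup.map_map]; rfl

/-- The image of a root group under a conjugate, read off from the inner automorphism it resembles. -/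
theorem map_conj_rbar {V : Type*} [AddCommGroup V] [Module F V] {Q : QuadraticForm F V} (A C : MulAut (POm Q))
    (s s' : siegelGroup Q) (hA : A (QuotientGroup.mk s) = QuotientGroup.mk s') {N N' : Submodule F V}
    (hN : (rbar Q N).map (A⁻¹).toMonoidHom = rbar Q N')
    (hC : (rbar Q N').map C.toMonoidHom = rbar Q (N'.map ((s : Orth Q).1 : V →ₗ[F] V))) :
    (rbar Q N).map (A * C * A⁻¹).toMonoidHom = rbar Q (N.map ((s' : Orth Q).1 : V →ₗ[F] V)) := by
  have e : A * MulAut.conj (QuotientGroup.mk s : POm Q) * A⁻¹ = MulAut.conj (QuotientGroup.mk s' : POm Q) := by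
    refine MulEquiv.ext fun y => ?_
    rw [← hA, MulAut.mul_apply, MulAut.mul_apply, MulAut.conj_apply, MulAut.conj_apply, map_mul, map_mul,
      map_inv, MulAut.apply_inv_self]
  rw [map_mul_hom, map_mul_hom, hN, hC, ← rbar_conj, ← hN, ← map_mul_hom, ← map_mul_hom, ← conj_mk,
    e, conj_mk, rbar_conj]

variable (F) in
/-- In dimension eight: the conjugate of a diagonal automorphism centralising a root group. -/
theorem conj_mem_eight (α : MulAut (POmega F ⇑(plusForm 4 F))) (x : Fˣ × (Fin 4 → Fˣ))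
    (hx : x.2 0 * x.2 1 = x.1) :
    α * simAut (D x) * α⁻¹ ∈ (K0 4 F).map simAut := by
  obtain ⟨p, hp⟩ := CharP.exists F
  haveI : Fact p.Prime := ⟨CharP.char_is_prime F p⟩
  have hm : (3 : ℕ) ≤ 4 := by norm_num
  have hR := ndPolar_zeroKernel (F := F)
  have hRan : ∀ w : Fin 0 → F, zeroKernel F w = 0 → w = 0 := fun _ _ => Subsingleton.elim _ _
  set P := frame (zeroKernel F) hm with hP
  have hnd : NDPolar (MQ 4 F) := hnd_MQ
  have hμ : ∀ v, plusForm 4 F (((D x : GL (Fin 4 ⊕ Fin 4) F) : Matrix (Fin 4 ⊕ Fin 4) (Fin 4 ⊕ Fin 4) F) *ᵥ v) =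
      (x.1 : F) * plusForm 4 F v := dmat_sim x
  set T := modelSim (D x) x.1 hμ with hT
  set A := toModel hm α with hA
  set C := T.conjPS hnd P with hC
  set B := A * C * A⁻¹ with hB
  have hBeq : toModel hm (α * simAut (D x) * α⁻¹) = B := by
    rw [map_mul, map_mul, map_inv, toModel_simAut hm (D x) x.1 hμ]
  -- images of commuting pairs
  obtain ⟨τ, hτ⟩ := exists_linePerm hR hm p A⁻¹
  have hpair : ∀ L M : Ln (MQ 4 F), L ≠ M → CC L M → ¬ AA L M → ∃ g : Orth (MQ 4 F),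
      g ∈ siegelGroup (MQ 4 F) ∧
      (rbar (MQ 4 F) L.1).map B.toMonoidHom = rbar (MQ 4 F) (L.1.map (g.1 : Vm F 4 (Fin 0 → F) →ₗ[F] Vm F 4 (Fin 0 → F))) ∧
      (rbar (MQ 4 F) M.1).map B.toMonoidHom = rbar (MQ 4 F) (M.1.map (g.1 : Vm F 4 (Fin 0 → F) →ₗ[F] Vm F 4 (Fin 0 → F))) := by
    intro L M h1 h2 h3
    obtain ⟨s, hs, hsL, hsM⟩ := pair_siegel le_rfl (D_mem_K0 x) x.1 hμ (τ.π L) (τ.π M) ((τ.cc L M).2 h2)
      (fun h => h3 ((τ.aa L M).1 h)) (fun h => h1 (τ.π.injective h))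
    obtain ⟨s', hs'⟩ := QuotientGroup.mk_surjective (A (QuotientGroup.mk ⟨s, hs⟩))
    have key : ∀ N : Ln (MQ 4 F), T.mapSub (τ.π N).1 = (τ.π N).1.map (s.1 : Vm F 4 (Fin 0 → F) →ₗ[F] Vm F 4 (Fin 0 → F)) →
        (rbar (MQ 4 F) N.1).map B.toMonoidHom =
          rbar (MQ 4 F) (N.1.map ((s' : Orth (MQ 4 F)).1 : Vm F 4 (Fin 0 → F) →ₗ[F] Vm F 4 (Fin 0 → F))) :=
      fun N hN => map_conj_rbar A C ⟨s, hs⟩ s' hs'.symm (hτ N)
        ((T.map_rbar hnd P (τ.π N).2).trans (by rw [hN]))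
    exact ⟨s', s'.2, key L hsL, key M hsM⟩
  obtain ⟨U, hU⟩ := exists_semiSim_of_pairs hR hm hRan p B
    (fun L M h1 h2 h3 => by obtain ⟨g, -, h⟩ := hpair L M h1 h2 h3; exact ⟨g, h⟩)
  -- a root group fixed pointwise
  have hline : ∀ {i j : Fin 4}, i ≠ j → IsLine (MQ 4 F) (Submodule.span F {ee i, ee j}) := fun h =>
    isLine_span (li_ee _ _ h) (Q_ee _) (Q_ee _) (by simp [polar_ee_right])
  let L0 : Ln (MQ 4 F) := ⟨_, hline (i := 0) (j := 1) (by decide)⟩
  have hCfix : ∀ y ∈ rbar (MQ 4 F) L0.1, C y = y := by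
    intro y hy
    obtain ⟨g, hg, rfl⟩ := mem_rbar_iff.1 hy
    rw [hC, SemiSim.conjPS_mk]
    congr 1
    refine Subtype.ext ?_
    rw [SemiSim.coe_conjSiegel]
    obtain ⟨t, ht⟩ := (mem_rootSub_iff (Q_ee 0) (Q_ee 1) (by simp [polar_ee_right]) rfl).1 hg
    rw [ht, T.conjOrth_sg (Q_ee 0) (by simp [polar_ee_right])]
    have hD : ∀ k : Fin 4, T.Φ (ee k) = (x.2 k : F) • ee k := fun k => by
      rw [← eP_single_inl, hT, modelSim_apply, ← _root_.map_smul]
      congr 1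
      funext j
      rw [D_mulVec]
      by_cases hj : j = Sum.inl k
      · subst hj; simp [dvec]
      · simp [hj]
    rw [T.map_smul, hD, hD, sg_smul_left _ (Q_ee 0) (by simp [polar_ee_right])]
    congr 1
    show (x.2 0 : F) • ((x.1 : F)⁻¹ • (t • ((x.2 1 : F) • (ee 1 : Vm F 4 (Fin 0 → F))))) = t • ee 1
    rw [smul_smul, smul_smul, smul_smul]
    congr 1
    rw [← hx, Units.val_mul]
    field_simp
  obtain ⟨τ', hτ'⟩ := exists_linePerm hR hm p A
  set L1 := τ'.π L0 with hL1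
  have hBfix : ∀ y ∈ rbar (MQ 4 F) L1.1, B y = y := by
    intro y hy
    rw [← hτ' L0] at hy
    obtain ⟨z, hz, rfl⟩ := hy
    show A (C (A⁻¹ (A z))) = A z
    rw [MulAut.inv_apply_self, hCfix z hz]
  obtain ⟨u, w, hind, hu, hw, huw, hs1⟩ := id L1.2
  have hUL : U.mapSub L1.1 = L1.1 := by
    refine rbar_injective hnd P p (U.isLine_mapSub L1.2) L1.2 ?_
    rw [← U.map_rbar hnd P L1.2, ← hU]
    ext y
    constructor
    · rintro ⟨z, hz, rfl⟩
      show B z ∈ _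
      rw [hBfix z hz]; exact hz
    · intro hy
      exact ⟨y, hy, hBfix y hy⟩
  have hmem : ∀ v ∈ L1.1, ∃ a b : F, a • u + b • w = U.Φ v := fun v hv => by
    refine Submodule.mem_span_pair.1 ?_
    rw [← hs1, ← hUL]
    exact ⟨v, hv, rfl⟩
  have huL : u ∈ L1.1 := hs1 ▸ Submodule.subset_span (Set.mem_insert _ _)
  have hwL : w ∈ L1.1 := hs1 ▸ Submodule.subset_span (Set.mem_insert_of_mem _ rfl)
  obtain ⟨a, b, hab⟩ := hmem u huL
  obtain ⟨c, e, hce⟩ := hmem w hwL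
  have hparam : ∀ t : F, U.s⁻¹ * U.σ t * (a * e - b * c) = t := by
    intro t
    set k := U.s⁻¹ * U.σ t * (a * e - b * c) with hk
    have hsg : sg (MQ 4 F) u (k • w) = sg (MQ 4 F) u (t • w) := by
      have h1 : U.conjOrth (sg (MQ 4 F) u (t • w)) = sg (MQ 4 F) u (k • w) := by
        rw [U.conjOrth_sg hu (by simp [huw]), U.map_smul, smul_smul, ← hab, ← hce, smul_add, smul_smul,
          smul_smul, sg_span_det hu hw huw]
        congr 2
        rw [hk]; ring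
      have hmk := hBfix (QuotientGroup.mk ⟨sg (MQ 4 F) u (t • w), sg_mem _ _⟩)
        (mem_rbar_iff.2 ⟨_, sg_mem_rootSub huL (L1.1.smul_mem t hwL), rfl⟩)
      rw [hU, SemiSim.conjPS_mk] at hmk
      have h2 := congrArg Subtype.val (eq_of_mk_eq hnd P p
        (Subtype.ext (by rw [SubmonoidClass.coe_pow, SemiSim.coe_conjSiegel, h1]; exact sg_pow_char p _ _))
        (Subtype.ext (by rw [SubmonoidClass.coe_pow]; exact sg_pow_char p _ _)) hmk)
      rw [SemiSim.coe_conjSiegel, h1] at h2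
      exact h2
    obtain ⟨r, hr⟩ := exists_smul_of_sg_eq hnd (hind.ne_zero 0) hu (by simp [huw]) (by simp [huw]) hsg
    have := (LinearIndependent.pair_iff.1 hind) r (t - k) (by rw [show r • u = k • w - t • w from hr, ← sub_smul]; module)
    exact (sub_eq_zero.1 this.2).symm
  have hσ : U.σ = 1 := RingEquiv.ext fun t => by
    have h1 := hparam 1
    rw [map_one, mul_one] at h1
    have h2 := hparam t
    rw [mul_right_comm, h1, one_mul] at h2
    exact h2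
  -- the matrix
  let L : (Fin 4 ⊕ Fin 4 → F) →ₗ[F] (Fin 4 ⊕ Fin 4 → F) :=
    { toFun := fun v => (eP 4 F).symm (U.Φ (eP 4 F v))
      map_add' := fun v w => by simp
      map_smul' := fun r v => by
        rw [_root_.map_smul, U.map_smul, hσ, _root_.map_smul]; rfl }
  have hinj : Function.Injective L := fun v w h =>
    (eP 4 F).injective (U.Φ.injective ((eP 4 F).symm.injective h))
  let G : GL (Fin 4 ⊕ Fin 4) F := Matrix.GeneralLinearGroup.toLin.symm
    (LinearMap.GeneralLinearGroup.ofLinearEquiv (LinearEquiv.ofInjectiveEndo L hinj))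
  have hG : ∀ v, (G : Matrix (Fin 4 ⊕ Fin 4) (Fin 4 ⊕ Fin 4) F) *ᵥ v = (eP 4 F).symm (U.Φ (eP 4 F v)) := fun v => by
    have h : (Matrix.GeneralLinearGroup.toLin G : (Fin 4 ⊕ Fin 4 → F) →ₗ[F] Fin 4 ⊕ Fin 4 → F) v =
        (G : Matrix (Fin 4 ⊕ Fin 4) (Fin 4 ⊕ Fin 4) F) *ᵥ v := by simp
    rw [← h, MulEquiv.apply_symm_apply]
    rfl
  have hGμ : ∀ v, plusForm 4 F ((G : Matrix (Fin 4 ⊕ Fin 4) (Fin 4 ⊕ Fin 4) F) *ᵥ v) =
      ((Units.mk0 U.s U.s_ne : Fˣ) : F) * plusForm 4 F v := fun v => by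
    show Cfsg.quadFormPlus 4 F _ = _
    rw [← plusEquiv_spec, hG, LinearEquiv.apply_symm_apply, U.quad, hσ, plusEquiv_spec]
    rfl
  let gs : ↥(simG (plusForm 4 F)) := ⟨G, _, hGμ⟩
  have hmodel : modelSim gs (Units.mk0 U.s U.s_ne) hGμ = U := by
    refine SemiSim.ext' hσ.symm rfl fun y => ?_
    obtain ⟨v, rfl⟩ := (eP 4 F).surjective y
    rw [modelSim_apply, hG, LinearEquiv.apply_symm_apply]
  have heq : α * simAut (D x) * α⁻¹ = simAut gs :=
    (toModel hm).injective (by rw [hBeq, hU, toModel_simAut hm gs _ hGμ, hmodel])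
  -- parity
  let M01 : Ln (MQ 4 F) := L0
  let M23 : Ln (MQ 4 F) := ⟨_, hline (i := 2) (j := 3) (by decide)⟩
  have hperp : Perp (MQ 4 F) M01.1 M23.1 := by
    refine perp_span ?_
    rintro y (rfl | rfl) z (rfl | rfl) <;> simp [polar_ee_right]
  have hnmeet : ¬ Meet M01.1 M23.1 := by
    rintro ⟨z, hz0, hz1, hz2⟩
    obtain ⟨r, r', hr⟩ := Submodule.mem_span_pair.1 hz1
    obtain ⟨q, q', hq⟩ := Submodule.mem_span_pair.1 hz2
    refine hz0 ?_
    have e0 := congrArg (fun z : Vm F 4 (Fin 0 → F) => z.1.1 0) (hr.trans hq.symm)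
    have e1 := congrArg (fun z : Vm F 4 (Fin 0 → F) => z.1.1 1) (hr.trans hq.symm)
    simp at e0 e1
    rw [← hr, e0, e1]; simp
  have hne : M01 ≠ M23 := fun h => hnmeet (by
    rw [← h]
    exact ⟨ee 0, ee_ne_zero 0, Submodule.subset_span (Set.mem_insert _ _), Submodule.subset_span (Set.mem_insert _ _)⟩)
  obtain ⟨s, hs, hsL, hsM⟩ := hpair M01 M23 hne (Or.inr hperp) (fun h => hnmeet h.2.1)
  rw [hU, U.map_rbar hnd P M01.2] at hsL
  rw [hU, U.map_rbar hnd P M23.2] at hsM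
  replace hsL := rbar_injective hnd P p (U.isLine_mapSub M01.2) (M01.2.map s) hsL
  replace hsM := rbar_injective hnd P p (U.isLine_mapSub M23.2) (M23.2.map s) hsM
  obtain ⟨ω, hω⟩ := (omegaEquiv hm).surjective ⟨s, hs⟩
  set O : ↥(simG (plusForm 4 F)) := isoToSim (ω : ↥(isometryGroup F ⇑(plusForm 4 F))) with hO
  have hzero : ∀ (i : Fin 4) (j : Fin 4),
      (((O⁻¹ * gs : ↥(simG (plusForm 4 F))) : GL (Fin 4 ⊕ Fin 4) F) : Matrix (Fin 4 ⊕ Fin 4) (Fin 4 ⊕ Fin 4) F)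
        (Sum.inr i) (Sum.inl j) = 0 := by
    intro i j
    obtain ⟨z, hz, hzj⟩ : ∃ z : Vm F 4 (Fin 0 → F), z.1.2 = 0 ∧ s.1 z = U.Φ (ee j) := by
      have h4 : j = 0 ∨ j = 1 ∨ j = 2 ∨ j = 3 := by revert j; decide
      have hz01 : ∀ z ∈ M01.1, z.1.2 = 0 := fun z hz => by
        obtain ⟨r, r', rfl⟩ := Submodule.mem_span_pair.1 hz
        funext k; simp
      have hz23 : ∀ z ∈ M23.1, z.1.2 = 0 := fun z hz => by
        obtain ⟨r, r', rfl⟩ := Submodule.mem_span_pair.1 hz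
        funext k; simp
      have k01 : ∀ v ∈ M01.1, ∃ z : Vm F 4 (Fin 0 → F), z.1.2 = 0 ∧ s.1 z = U.Φ v := fun v hv => by
        obtain ⟨z, hz, hze⟩ := (hsL ▸ ⟨v, hv, rfl⟩ : U.Φ v ∈ M01.1.map (s.1 : Vm F 4 (Fin 0 → F) →ₗ[F] Vm F 4 (Fin 0 → F)))
        exact ⟨z, hz01 z hz, hze⟩
      have k23 : ∀ v ∈ M23.1, ∃ z : Vm F 4 (Fin 0 → F), z.1.2 = 0 ∧ s.1 z = U.Φ v := fun v hv => by
        obtain ⟨z, hz, hze⟩ := (hsM ▸ ⟨v, hv, rfl⟩ : U.Φ v ∈ M23.1.map (s.1 : Vm F 4 (Fin 0 → F) →ₗ[F] Vm F 4 (Fin 0 → F)))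
        exact ⟨z, hz23 z hz, hze⟩
      rcases h4 with rfl | rfl | rfl | rfl
      · exact k01 _ (Submodule.subset_span (Set.mem_insert _ _))
      · exact k01 _ (Submodule.subset_span (Set.mem_insert_of_mem _ rfl))
      · exact k23 _ (Submodule.subset_span (Set.mem_insert _ _))
      · exact k23 _ (Submodule.subset_span (Set.mem_insert_of_mem _ rfl))
    obtain ⟨v, rfl⟩ := (eP 4 F).surjective z
    have h2 : ((O : GL (Fin 4 ⊕ Fin 4) F) : Matrix (Fin 4 ⊕ Fin 4) (Fin 4 ⊕ Fin 4) F) *ᵥ v =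
        (G : Matrix (Fin 4 ⊕ Fin 4) (Fin 4 ⊕ Fin 4) F) *ᵥ Pi.single (Sum.inl j) 1 := by
      refine (eP 4 F).injective ?_
      rw [hG, LinearEquiv.apply_symm_apply, eP_single_inl, ← hzj, hO, CfsgLib.PGOQuot.isoToSim_coe, ← omegaEquiv_apply hm ω v, hω]
    have h3 : ((((O⁻¹ * gs : ↥(simG (plusForm 4 F))) : GL (Fin 4 ⊕ Fin 4) F)) : Matrix (Fin 4 ⊕ Fin 4) (Fin 4 ⊕ Fin 4) F) *ᵥ
        Pi.single (Sum.inl j) 1 = v := by
      rw [Subgroup.coe_mul, Subgroup.coe_inv, Units.val_mul, ← Matrix.mulVec_mulVec, ← h2, Matrix.mulVec_mulVec,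
        Units.inv_mul, Matrix.one_mulVec]
    have h5 : v (Sum.inr i) = 0 := congrFun hz i
    rw [← h5, ← h3]
    simp
  refine ⟨gs, mem_K0.mpr ?_, heq.symm⟩
  have h6 : par (O⁻¹ * gs) = 1 := by
    have h7 : lowerLeft ((((O⁻¹ * gs : ↥(simG (plusForm 4 F))) : GL (Fin 4 ⊕ Fin 4) F)) : Matrix (Fin 4 ⊕ Fin 4) (Fin 4 ⊕ Fin 4) F) = 0 :=
      Matrix.ext hzero
    rw [par_apply, parNat, h7, Matrix.rank_zero, Nat.cast_zero, ofAdd_zero]
  rwa [map_mul, map_inv, hO, par_omega, inv_one, one_mul] at h6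

/-- Every automorphism normalises the inner-diagonal group. -/
theorem conj_mem (hm : 4 ≤ m) (α : MulAut (POmega F ⇑(plusForm m F))) :
    ∀ y ∈ (K0 m F).map simAut, α * y * α⁻¹ ∈ (K0 m F).map simAut := by
  rcases hm.lt_or_eq with h5 | rfl
  · rintro _ ⟨d, hd, rfl⟩
    obtain ⟨g, τ, hα⟩ := CfsgLib.Descent.exists_decomp invAut_eq_top
      (CfsgLib.AutPOmega.gammaPOmega_plus_eq_top (F := F) h5) α
    refine ⟨g * simMap τ d * g⁻¹, mem_K0.mpr (by
      rw [map_mul, map_mul, map_inv, par_simMap, mem_K0.mp hd, mul_one, mul_inv_cancel]), ?_⟩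
    rw [hα, map_mul, map_mul, map_inv]
    calc simAut g * simAut (simMap τ d) * (simAut g)⁻¹
        = simAut g * (simAut (simMap τ d) * fieldAut τ) * (fieldAut τ)⁻¹ * (simAut g)⁻¹ := by group
      _ = simAut g * (fieldAut τ * simAut d) * (fieldAut τ)⁻¹ * (simAut g)⁻¹ := by
          rw [← CfsgLib.Descent.fieldAut_simAut]
      _ = _ := by group
  · intro y hy
    have hinn : Cfsg.Inn (POmega F ⇑(plusForm 4 F)) ≤ ((K0 4 F).map simAut).comap (MulAut.conj α).toMonoidHom := by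
      intro k hk
      exact inn_le (CfsgLib.AutPSp.inn_conj α hk)
    refine inndiag_le (m := 4) (by norm_num) hinn (fun x => ?_) hy
    set a : Fˣ := x.1 / (x.2 0 * x.2 1) with ha
    set t : Fin 4 → Fˣ := Pi.mulSingle 0 a * Pi.mulSingle 2 a with ht
    have hx' : (x * (1, t)).2 0 * (x * (1, t)).2 1 = (x * (1, t)).1 := by
      show (x.2 0 * t 0) * (x.2 1 * t 1) = x.1 * 1
      rw [show t 0 = a by simp [ht], show t 1 = 1 by simp [ht], mul_one, mul_one, ha, mul_right_comm,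
        mul_div_cancel]
    have hsq : IsSquare ((∏ i, t i : Fˣ) : F) := by
      refine ⟨(a : F), ?_⟩
      simp [ht, Fin.prod_univ_four, Pi.mulSingle_apply]
    have he : D x = D (x * (1, t)) * (D ((1, t) : Fˣ × (Fin 4 → Fˣ)))⁻¹ := by
      rw [map_mul, mul_inv_cancel_right]
    rw [he, map_mul, map_inv]
    refine Subgroup.mul_mem _ ?_ (Subgroup.inv_mem _ (hinn (simAut_torus_mem (by norm_num) t hsq)))
    exact conj_mem_eight F α _ hx'

end CfsgLib.FieldAutPlus
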