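import Cfsg.Agent.Lib.FieldAutPlus.Basic
import Cfsg.Agent.Lib.PGOQuot.Plus
import Cfsg.Agent.Lib.OrthCrit.Trans

/-!
The diagonal similarities of the split form and the decomposition of the class-preserving similarities as
diagonal ones times elements of `Ω`, in every characteristic.
-/

set_option autoImplicit false
set_option linter.unusedSectionVars false
set_option linter.style.haveILetI false
set_option maxHeartbeats 400000

namespace CfsgLib.FieldAutPlus

open Matrix QuadraticMap Module Cfsg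
open CfsgLib.OrthCrit (plusForm halfSpace)
open CfsgLib.PGOQuot (simG simAut scal isoToSim sqSign)
open CfsgLib.PGOQuot.Ctx (th)

variable {F : Type*} [Field F] {m : ℕ}

/-- Diagonal invertible matrices. -/
def diagGL {n : Type} [Fintype n] [DecidableEq n] : (n → Fˣ) →* GL n F :=
  (Units.map (Matrix.diagonalRingHom n F).toMonoidHom).comp MulEquiv.piUnits.symm.toMonoidHom

theorem diagGL_coe {n : Type} [Fintype n] [DecidableEq n] (v : n → Fˣ) :
    ((diagGL v : GL n F) : Matrix n n F) = Matrix.diagonal fun i => (v i : F) := rfl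

/-- The diagonal entries of `(μ, l)`: `l` on the half space, `μ / l` on its complement. -/
def dvec : Fˣ × (Fin m → Fˣ) →* (Fin m ⊕ Fin m → Fˣ) where
  toFun x := Sum.elim x.2 fun i => x.1 / x.2 i
  map_one' := by funext k; rcases k with i | i <;> simp
  map_mul' x y := by
    funext k; rcases k with i | i
    · rfl
    · show x.1 * y.1 / (x.2 i * y.2 i) = x.1 / x.2 i * (y.1 / y.2 i)
      exact mul_div_mul_comm _ _ _ _

theorem dmat_mulVec (x : Fˣ × (Fin m → Fˣ)) (v : Fin m ⊕ Fin m → F) (k : Fin m ⊕ Fin m) :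
    (((diagGL (dvec x) : GL (Fin m ⊕ Fin m) F) : Matrix (Fin m ⊕ Fin m) (Fin m ⊕ Fin m) F) *ᵥ v) k =
      (dvec x k : F) * v k := by
  rw [diagGL_coe, Matrix.mulVec_diagonal]

theorem dmat_sim (x : Fˣ × (Fin m → Fˣ)) (v : Fin m ⊕ Fin m → F) :
    plusForm m F (((diagGL (dvec x) : GL (Fin m ⊕ Fin m) F) : Matrix (Fin m ⊕ Fin m) (Fin m ⊕ Fin m) F) *ᵥ v) =
      (x.1 : F) * plusForm m F v := by
  simp only [CfsgLib.OrthCrit.plusForm_apply, Cfsg.quadFormPlus, dmat_mulVec, Finset.mul_sum]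
  refine Finset.sum_congr rfl fun i _ => ?_
  show (x.2 i : F) * v (Sum.inl i) * (((x.1 / x.2 i : Fˣ) : F) * v (Sum.inr i)) = _
  rw [Units.val_div_eq_div_val]
  field_simp

/-- The diagonal similarity with multiplier `μ` and entries `l` on the half space. -/
noncomputable def D : Fˣ × (Fin m → Fˣ) →* ↥(simG (plusForm m F)) :=
  ((diagGL).comp dvec).codRestrict _ fun x => ⟨x.1, dmat_sim x⟩

theorem D_coe (x : Fˣ × (Fin m → Fˣ)) :
    ((D x : ↥(simG (plusForm m F))) : GL (Fin m ⊕ Fin m) F) = diagGL (dvec x) := rfl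

theorem D_mulVec (x : Fˣ × (Fin m → Fˣ)) (v : Fin m ⊕ Fin m → F) (k : Fin m ⊕ Fin m) :
    ((((D x : ↥(simG (plusForm m F))) : GL (Fin m ⊕ Fin m) F) : Matrix (Fin m ⊕ Fin m) (Fin m ⊕ Fin m) F) *ᵥ v) k =
      (dvec x k : F) * v k := dmat_mulVec x v k

theorem parNat_eq_zero_of_diag (v : Fin m ⊕ Fin m → Fˣ) : parNat (diagGL v : GL (Fin m ⊕ Fin m) F) = 0 := by
  have h : lowerLeft ((diagGL v : GL (Fin m ⊕ Fin m) F) : Matrix (Fin m ⊕ Fin m) (Fin m ⊕ Fin m) F) = 0 := by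
    ext i j; simp [lowerLeft, diagGL_coe]
  rw [parNat, h, Matrix.rank_zero, Nat.cast_zero]

theorem par_D (x : Fˣ × (Fin m → Fˣ)) : par (D x) = 1 := by
  rw [par_apply, D_coe, parNat_eq_zero_of_diag, ofAdd_zero]

theorem D_mem_K0 (x : Fˣ × (Fin m → Fˣ)) : D x ∈ K0 m F := mem_K0.mpr (par_D x)

theorem D_scal (c : Fˣ) :
    D ((c * c, fun _ => c) : Fˣ × (Fin m → Fˣ)) = ⟨scal c, CfsgLib.PGOQuot.scal_mem_simG c⟩ := by
  refine Subtype.ext (CfsgLib.PGOQuot.gl_ext fun v => funext fun k => ?_)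
  rw [D_coe, dmat_mulVec, CfsgLib.PGOQuot.scal_mulVec]
  rcases k with i | i <;> simp [dvec, mul_div_assoc]

theorem simMap_D (σ : ↥(CfsgLib.Descent.invAut (plusForm m F))) (x : Fˣ × (Fin m → Fˣ)) :
    CfsgLib.Descent.simMap σ (D x) = D (Units.map (σ : F ≃+* F).toRingHom.toMonoidHom x.1,
      fun i => Units.map (σ : F ≃+* F).toRingHom.toMonoidHom (x.2 i)) := by
  refine Subtype.ext (Units.ext ?_)
  show ((diagGL (dvec x) : GL (Fin m ⊕ Fin m) F) : Matrix (Fin m ⊕ Fin m) (Fin m ⊕ Fin m) F).map (σ : F ≃+* F) = _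
  rw [D_coe, diagGL_coe, diagGL_coe, Matrix.diagonal_map (map_zero _)]
  congr 1
  funext k
  rcases k with i | i
  · rfl
  · simp [dvec, Units.val_div_eq_div_val, map_div₀]

/-! ### Isometries in `Ω` -/

/-- The isometry with entries `l`, `l⁻¹`. -/
noncomputable def torus : (Fin m → Fˣ) →* ↥(isometryGroup F ⇑(plusForm m F)) :=
  (((diagGL).comp dvec).comp (MonoidHom.inr Fˣ (Fin m → Fˣ))).codRestrict _ fun l u _ => by
    show plusForm m F (((diagGL (dvec ((1 : Fˣ), l)) : GL (Fin m ⊕ Fin m) F) : Matrix (Fin m ⊕ Fin m) (Fin m ⊕ Fin m) F) *ᵥ u) = plusForm m F u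
    rw [dmat_sim]
    simp

theorem isoToSim_torus (l : Fin m → Fˣ) : isoToSim (torus l) = D (1, l) := Subtype.ext rfl

theorem act_torus (l : Fin m → Fˣ) (v : Fin m ⊕ Fin m → F) (k : Fin m ⊕ Fin m) :
    CfsgLib.OrthSpinor.act (plusForm m F) (torus l) v k = (dvec ((1 : Fˣ), l) k : F) * v k := dmat_mulVec (1, l) v k

theorem parity_eq_zero_of_par (hm : 3 ≤ m) {o : ↥(isometryGroup F ⇑(plusForm m F))}
    (ho : par (isoToSim o) = 1) : CfsgLib.OrthCrit.parity o = 0 := by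
  rw [← CfsgLib.OrthCrit.even_sub_finrank_inf_map (CfsgLib.OrthCrit.ndPolar_plusForm m) (Or.inr (by simp; omega))
    CfsgLib.OrthCrit.halfSpace_singular CfsgLib.OrthCrit.finrank_halfSpace (by simp; omega) o]
  rw [par_apply, ofAdd_eq_one, parNat, ZMod.natCast_eq_zero_iff_even] at ho
  have h := finrank_inf_map ((isoToSim o : ↥(simG (plusForm m F))) : GL (Fin m ⊕ Fin m) F)
  rw [CfsgLib.PGOQuot.isoToSim_coe] at h ho
  convert ho using 1
  omega

variable [Fintype F]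

theorem mem_Omega_of (hm : 3 ≤ m) {o : ↥(isometryGroup F ⇑(plusForm m F))} (ho : par (isoToSim o) = 1)
    (hth : (2 : F) ≠ 0 → th o = 1) : o ∈ Omega F ⇑(plusForm m F) := by
  have hnd := CfsgLib.OrthCrit.ndPolar_plusForm (F := F) m
  have hp := parity_eq_zero_of_par hm ho
  by_cases h2 : (2 : F) = 0
  · haveI : CharP F 2 := CharTwo.of_one_ne_zero_of_two_eq_zero one_ne_zero h2
    refine (CfsgLib.OrthCrit.mem_Omega_iff_char_two hnd (Or.inr (by simp; omega)) ?_ o).mpr hp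
    exact ⟨Pi.single (Sum.inl ⟨0, by omega⟩) 1 + Pi.single (Sum.inr ⟨0, by omega⟩) 1,
      by simp [Cfsg.quadFormPlus, Pi.single_apply]⟩
  · exact (CfsgLib.OrthSpinor.mem_Omega_iff h2 (CfsgLib.Orth.ndPolar_iff.mp hnd) (by simp; omega) one_ne_zero o).mpr
      ⟨(CfsgLib.OrthCrit.detHom_eq_one_iff hnd h2 o).mpr hp, hth h2⟩

theorem th_torus_single (h2 : (2 : F) ≠ 0) (i : Fin m) (a : Fˣ) :
    th (torus (Pi.mulSingle i a : Fin m → Fˣ)) = sqSign a := by
  by_cases hs : IsSquare (a : F)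
  · obtain ⟨b, hb⟩ := hs
    have hb0 : b ≠ 0 := fun h => a.ne_zero (by rw [hb, h, mul_zero])
    have ha : a = Units.mk0 b hb0 * Units.mk0 b hb0 := Units.ext hb
    rw [(CfsgLib.PGOQuot.sqSign_eq_one_iff a).mpr ⟨b, hb⟩, ha, Pi.mulSingle_mul, map_mul, map_mul,
      Int.units_mul_self]
  · obtain ⟨u, -, hu2, hu3⟩ := CfsgLib.PGOQuot.exists_pair_scale (Q := plusForm m F) h2 a.ne_zero hs
      (e := Pi.single (Sum.inl i) 1) (f := Pi.single (Sum.inr i) 1)
      (by simp [Cfsg.quadFormPlus, Pi.single_apply]) (by simp [Cfsg.quadFormPlus, Pi.single_apply])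
      (by simp [CfsgLib.OrthCrit.polar_plusForm, Pi.single_apply])
    have he : torus (Pi.mulSingle i a : Fin m → Fˣ) = u := by
      refine CfsgLib.OrthSpinor.ext_act (plusForm m F) fun y => funext fun k => ?_
      rw [act_torus, hu3]
      rcases k with j | j <;>
        · by_cases hj : j = i
          · subst hj
            simp [dvec, CfsgLib.OrthCrit.polar_plusForm, Pi.single_apply]
            ring
          · simp [dvec, CfsgLib.OrthCrit.polar_plusForm, Pi.single_apply, hj]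
    rw [he, (CfsgLib.PGOQuot.sqSign_eq_neg_one_iff a).mpr hs]
    exact hu2

/-- The spinor norm of a torus element. -/
theorem th_torus (h2 : (2 : F) ≠ 0) (l : Fin m → Fˣ) : th (torus l) = sqSign (∏ i, l i) := by
  show (th.comp torus) l = _
  conv_lhs => rw [← Finset.univ_prod_mulSingle l]
  rw [map_prod, map_prod]
  exact Finset.prod_congr rfl fun i _ => th_torus_single h2 i (l i)

theorem torus_mem_Omega (hm : 3 ≤ m) (l : Fin m → Fˣ) (h : IsSquare ((∏ i, l i : Fˣ) : F)) :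
    torus l ∈ Omega F ⇑(plusForm m F) :=
  mem_Omega_of hm (by rw [isoToSim_torus, par_D])
    fun h2 => by rw [th_torus h2, (CfsgLib.PGOQuot.sqSign_eq_one_iff _).mpr h]

/-- The class-preserving similarities are diagonal ones times elements of `Ω`. -/
theorem exists_D_omega (hm : 3 ≤ m) {d : ↥(simG (plusForm m F))} (hd : d ∈ K0 m F) :
    ∃ (x : Fˣ × (Fin m → Fˣ)) (w : ↥(Omega F ⇑(plusForm m F))),
      d = D x * isoToSim (w : ↥(isometryGroup F ⇑(plusForm m F))) := by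
  obtain ⟨μ, hμ⟩ := d.2
  set d₀ : ↥(simG (plusForm m F)) := (D ((μ, fun _ => 1) : Fˣ × (Fin m → Fˣ)))⁻¹ * d with hd₀
  have hiso : ∀ u, plusForm m F (((d₀ : GL (Fin m ⊕ Fin m) F) : Matrix (Fin m ⊕ Fin m) (Fin m ⊕ Fin m) F) *ᵥ u) =
      plusForm m F u := by
    intro u
    rw [hd₀, ← map_inv]
    show plusForm m F ((_ * (d : GL (Fin m ⊕ Fin m) F) : GL (Fin m ⊕ Fin m) F).1 *ᵥ u) = _
    rw [Units.val_mul, ← Matrix.mulVec_mulVec, D_coe, dmat_sim, hμ]
    simp
  let o : ↥(isometryGroup F ⇑(plusForm m F)) := ⟨(d₀ : GL (Fin m ⊕ Fin m) F), fun u _ => hiso u⟩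
  have hpo : par (isoToSim o) = 1 := by
    rw [show isoToSim o = d₀ from Subtype.ext rfl, hd₀, map_mul, map_inv, par_D, mem_K0.mp hd, inv_one, one_mul]
  obtain ⟨ν, hν, hw⟩ : ∃ (ν : Fin m → Fˣ), True ∧ torus ν * o ∈ Omega F ⇑(plusForm m F) := by
    by_cases h2 : (2 : F) = 0
    · exact ⟨1, trivial, mem_Omega_of hm (by rw [map_mul, map_mul, isoToSim_torus, par_D, one_mul, hpo])
        fun h => absurd h2 h⟩
    rcases Int.units_eq_one_or (th o) with h | h
    · exact ⟨1, trivial, mem_Omega_of hm (by rw [map_mul, map_mul, isoToSim_torus, par_D, one_mul, hpo])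
        fun _ => by rw [map_one, one_mul, h]⟩
    · obtain ⟨n, hn, hns⟩ := CfsgLib.OrthSpinor.exists_nonsquare' (F := F) h2
      refine ⟨Pi.mulSingle ⟨0, by omega⟩ (Units.mk0 n hn), trivial,
        mem_Omega_of hm (by rw [map_mul, map_mul, isoToSim_torus, par_D, one_mul, hpo]) fun _ => ?_⟩
      rw [map_mul, th_torus_single h2, h, (CfsgLib.PGOQuot.sqSign_eq_neg_one_iff _).mpr (by simpa using hns)]
      rfl
  refine ⟨(μ, fun _ => 1) * (1, ν⁻¹), ⟨_, hw⟩, ?_⟩
  show d = D _ * isoToSim (torus ν * o)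
  rw [map_mul D, map_mul isoToSim, isoToSim_torus, show isoToSim o = d₀ from Subtype.ext rfl, hd₀,
    show ((1, ν⁻¹) : Fˣ × (Fin m → Fˣ)) = ((1, ν) : Fˣ × (Fin m → Fˣ))⁻¹ from Prod.ext inv_one.symm rfl,
    map_inv]
  group

theorem par_omega (w : ↥(Omega F ⇑(plusForm m F))) :
    par (isoToSim (w : ↥(isometryGroup F ⇑(plusForm m F)))) = 1 :=
  MonoidHom.mem_ker.mp (Abelianization.commutator_subset_ker (par.comp isoToSim) w.2)

/-- Inner automorphisms are images of elements of `Ω`. -/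
theorem inn_le : Cfsg.Inn (POmega F ⇑(plusForm m F)) ≤ (K0 m F).map simAut := by
  rintro _ ⟨x, rfl⟩
  induction x using QuotientGroup.induction_on with
  | _ w => exact ⟨_, mem_K0.mpr (par_omega w), CfsgLib.PGOQuot.simAut_omega w⟩

theorem simAut_omega_mem (w : ↥(Omega F ⇑(plusForm m F))) :
    simAut (isoToSim (w : ↥(isometryGroup F ⇑(plusForm m F)))) ∈ Cfsg.Inn (POmega F ⇑(plusForm m F)) :=
  ⟨QuotientGroup.mk w, (CfsgLib.PGOQuot.simAut_omega w).symm⟩

theorem simAut_torus_mem (hm : 3 ≤ m) (l : Fin m → Fˣ) (h : IsSquare ((∏ i, l i : Fˣ) : F)) :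
    simAut (D ((1, l) : Fˣ × (Fin m → Fˣ))) ∈ Cfsg.Inn (POmega F ⇑(plusForm m F)) := by
  rw [← isoToSim_torus]
  exact simAut_omega_mem ⟨_, torus_mem_Omega hm l h⟩

theorem simAut_D_sq_mem (hm : 3 ≤ m) (l : Fin m → Fˣ) :
    simAut (D ((1, l * l) : Fˣ × (Fin m → Fˣ))) ∈ Cfsg.Inn (POmega F ⇑(plusForm m F)) := by
  refine simAut_torus_mem hm _ ?_
  simp only [Pi.mul_apply, Finset.prod_mul_distrib, Units.val_mul]
  exact ⟨_, rfl⟩

/-- A subgroup containing the inner and the diagonal automorphisms contains all inner-diagonal ones. -/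
theorem inndiag_le (hm : 3 ≤ m) {S : Subgroup (MulAut (POmega F ⇑(plusForm m F)))}
    (hI : Cfsg.Inn (POmega F ⇑(plusForm m F)) ≤ S) (hD : ∀ x, simAut (D x) ∈ S) :
    (K0 m F).map simAut ≤ S := by
  rintro _ ⟨d, hd, rfl⟩
  obtain ⟨x, w, rfl⟩ := exists_D_omega hm hd
  rw [map_mul]
  exact S.mul_mem (hD x) (hI (simAut_omega_mem w))

end CfsgLib.FieldAutPlus
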