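import Cfsg.Agent.Lib.FieldAutPlus.Torus
import Cfsg.Agent.Lib.FieldAutPlus.LinePairs

/-!
Diagonal similarities in the model: transitivity on lines by elements of the Siegel group, and the model
form of conjugation.
-/

set_option autoImplicit false
set_option linter.unusedSectionVars false
set_option maxHeartbeats 800000

namespace CfsgLib.FieldAutPlus

open Matrix QuadraticMap Module Cfsg
open CfsgLib.Classical.Quad CfsgLib.AutPOmega
open CfsgLib.OrthCrit (plusForm)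
open CfsgLib.PGOQuot (simG simAut isoToSim)
open CfsgLib.Descent (invAut fieldAut)

variable {F : Type*} [Field F] [Fintype F] {m : ℕ}

/-- The form of the model. -/
abbrev MQ (m : ℕ) (F : Type*) [Field F] : QuadraticForm F (Vm F m (Fin 0 → F)) := hypForm m (zeroKernel F)

/-- The coordinate equivalence with the model. -/
noncomputable abbrev eP (m : ℕ) (F : Type*) [Field F] : (Fin m ⊕ Fin m → F) ≃ₗ[F] Vm F m (Fin 0 → F) := plusEquiv m F

theorem hnd_MQ : NDPolar (MQ m F) := ndPolar_hypForm ndPolar_zeroKernel m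

theorem eP_single_inl (i : Fin m) : eP m F (Pi.single (Sum.inl i) 1) = ee i := by
  refine Prod.ext (Prod.ext ?_ ?_) (Subsingleton.elim _ _) <;> funext j <;>
    simp [plusEquiv, ee, Pi.single_apply]

theorem eP_single_inr (i : Fin m) : eP m F (Pi.single (Sum.inr i) 1) = ff i := by
  refine Prod.ext (Prod.ext ?_ ?_) (Subsingleton.elim _ _) <;> funext j <;>
    simp [plusEquiv, ff, Pi.single_apply]

/-- The isomorphism of `Ω` with the Siegel group of the model. -/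
noncomputable def omegaEquiv (hm : 3 ≤ m) : ↥(Omega F ⇑(plusForm m F)) ≃* siegelGroup (MQ m F) :=
  (commutatorEquiv (isometryEquivModel (eP m F) (plusEquiv_spec m))).trans
    (MulEquiv.subgroupCongr (commutator_orth_eq hnd_MQ (frame (zeroKernel F) hm)))

theorem omegaEquiv_apply (hm : 3 ≤ m) (w : ↥(Omega F ⇑(plusForm m F))) (v : Fin m ⊕ Fin m → F) :
    (omegaEquiv hm w : Orth (MQ m F)).1 (eP m F v) =
      eP m F ((((w : ↥(isometryGroup F ⇑(plusForm m F))) : GL (Fin m ⊕ Fin m) F) :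
        Matrix (Fin m ⊕ Fin m) (Fin m ⊕ Fin m) F) *ᵥ v) :=
  isometryEquivModel_apply (eP m F) (plusEquiv_spec m) w.1 v

/-- The model of a similarity. -/
noncomputable def modelSim (g : ↥(simG (plusForm m F))) (μ : Fˣ)
    (hμ : ∀ v, plusForm m F (((g : GL (Fin m ⊕ Fin m) F) : Matrix (Fin m ⊕ Fin m) (Fin m ⊕ Fin m) F) *ᵥ v) =
      (μ : F) * plusForm m F v) : SemiSim (MQ m F) :=
  modelSemi (Q := plusForm m F) (eP m F) (plusEquiv_spec m) 1 g μ hμ

theorem modelSim_apply (g : ↥(simG (plusForm m F))) (μ : Fˣ)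
    (hμ : ∀ v, plusForm m F (((g : GL (Fin m ⊕ Fin m) F) : Matrix (Fin m ⊕ Fin m) (Fin m ⊕ Fin m) F) *ᵥ v) =
      (μ : F) * plusForm m F v) (v : Fin m ⊕ Fin m → F) :
    (modelSim g μ hμ).Φ (eP m F v) =
      eP m F (((g : GL (Fin m ⊕ Fin m) F) : Matrix (Fin m ⊕ Fin m) (Fin m ⊕ Fin m) F) *ᵥ v) :=
  modelSemi_apply (Q := plusForm m F) (eP m F) (plusEquiv_spec m) 1 g μ hμ v

/-- Automorphisms read in the model. -/
noncomputable def toModel (hm : 3 ≤ m) : MulAut (POmega F ⇑(plusForm m F)) ≃* MulAut (POm (MQ m F)) :=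
  MulAut.congr (pomegaEquiv (eP m F) (plusEquiv_spec m) hnd_MQ (frame (zeroKernel F) hm))

theorem toModel_simAut (hm : 3 ≤ m) (g : ↥(simG (plusForm m F))) (μ : Fˣ)
    (hμ : ∀ v, plusForm m F (((g : GL (Fin m ⊕ Fin m) F) : Matrix (Fin m ⊕ Fin m) (Fin m ⊕ Fin m) F) *ᵥ v) =
      (μ : F) * plusForm m F v) :
    toModel hm (simAut g) = (modelSim g μ hμ).conjPS hnd_MQ (frame (zeroKernel F) hm) := by
  refine MulEquiv.ext fun x => ?_
  obtain ⟨y, rfl⟩ := (pomegaEquiv (eP m F) (plusEquiv_spec m) hnd_MQ (frame (zeroKernel F) hm)).surjective x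
  refine Eq.trans ?_ (model_conj (Q := plusForm m F) (eP m F) (plusEquiv_spec m) ndPolar_zeroKernel hm g 1 μ hμ y)
  rw [map_one fieldAut, mul_one]
  show pomegaEquiv (eP m F) (plusEquiv_spec m) hnd_MQ (frame (zeroKernel F) hm) (simAut g
    ((pomegaEquiv (eP m F) (plusEquiv_spec m) hnd_MQ (frame (zeroKernel F) hm)).symm
      (pomegaEquiv (eP m F) (plusEquiv_spec m) hnd_MQ (frame (zeroKernel F) hm) y))) = _
  rw [MulEquiv.symm_apply_apply]
  rfl

/-- A class-preserving similarity moves each translate of the coordinate vectors like an element of the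
Siegel group, up to scalars. -/
theorem exists_siegel (hm : 3 ≤ m) {d : ↥(simG (plusForm m F))} (hd : d ∈ K0 m F) (μ : Fˣ)
    (hμ : ∀ v, plusForm m F (((d : GL (Fin m ⊕ Fin m) F) : Matrix (Fin m ⊕ Fin m) (Fin m ⊕ Fin m) F) *ᵥ v) =
      (μ : F) * plusForm m F v) (g : Orth (MQ m F)) :
    ∃ s : Orth (MQ m F), s ∈ siegelGroup (MQ m F) ∧ ∀ k : Fin m ⊕ Fin m, ∃ c : F,
      (modelSim d μ hμ).Φ (g.1 (eP m F (Pi.single k 1))) = c • s.1 (g.1 (eP m F (Pi.single k 1))) := by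
  obtain ⟨gi, hgi⟩ := (isometryEquivModel (Qf := ⇑(plusForm m F)) (eP m F) (plusEquiv_spec m)).surjective g
  have hg : ∀ v, g.1 (eP m F v) =
      eP m F (((gi : GL (Fin m ⊕ Fin m) F) : Matrix (Fin m ⊕ Fin m) (Fin m ⊕ Fin m) F) *ᵥ v) := fun v => by
    rw [← hgi]; exact isometryEquivModel_apply (eP m F) (plusEquiv_spec m) gi v
  set G : ↥(simG (plusForm m F)) := isoToSim gi with hG
  obtain ⟨x, w, hw⟩ := exists_D_omega hm (d := G⁻¹ * d * G) (mem_K0.mpr (by
    rw [map_mul, map_mul, map_inv, mem_K0.mp hd, mul_one, inv_mul_cancel]))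
  let w' : ↥(Omega F ⇑(plusForm m F)) :=
    ⟨_, CfsgLib.PGOQuot.conjIso_mem G (s := CfsgLib.PGOQuot.conjIso (D x) (w : ↥(isometryGroup F ⇑(plusForm m F))))
      (CfsgLib.PGOQuot.conjIso_mem (D x) w.2)⟩
  refine ⟨(omegaEquiv hm w' : Orth (MQ m F)), (omegaEquiv hm w').2, fun k => ⟨(dvec x k : F), ?_⟩⟩
  have hD : ((D x : ↥(simG (plusForm m F))) : GL (Fin m ⊕ Fin m) F).1 *ᵥ (Pi.single k (1 : F)) =
      (dvec x k : F) • Pi.single k (1 : F) := by
    funext j
    rw [D_mulVec]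
    by_cases hj : j = k
    · subst hj; simp
    · simp [hj]
  have he : (d : GL (Fin m ⊕ Fin m) F) * (G : GL (Fin m ⊕ Fin m) F) =
      ((w' : ↥(isometryGroup F ⇑(plusForm m F))) : GL (Fin m ⊕ Fin m) F) * (G : GL (Fin m ⊕ Fin m) F) *
        ((D x : ↥(simG (plusForm m F))) : GL (Fin m ⊕ Fin m) F) := by
    have h1 := congrArg (fun z : ↥(simG (plusForm m F)) => (G * z : ↥(simG (plusForm m F))).1) hw
    simp only [Subgroup.coe_mul, Subgroup.coe_inv] at h1
    rw [← mul_assoc, ← mul_assoc, mul_inv_cancel, one_mul] at h1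
    rw [h1, show ((w' : ↥(isometryGroup F ⇑(plusForm m F))) : GL (Fin m ⊕ Fin m) F) =
      (G : GL (Fin m ⊕ Fin m) F) * (((D x : ↥(simG (plusForm m F))) : GL (Fin m ⊕ Fin m) F) *
        ((w : ↥(isometryGroup F ⇑(plusForm m F))) : GL (Fin m ⊕ Fin m) F) *
        ((D x : ↥(simG (plusForm m F))) : GL (Fin m ⊕ Fin m) F)⁻¹) * (G : GL (Fin m ⊕ Fin m) F)⁻¹ from rfl]
    rw [CfsgLib.PGOQuot.isoToSim_coe]
    group
    rfl
  rw [hg, modelSim_apply, omegaEquiv_apply, ← map_smul, ← Matrix.mulVec_smul, ← Matrix.mulVec_smul,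
    ← hD, Matrix.mulVec_mulVec, Matrix.mulVec_mulVec, Matrix.mulVec_mulVec, ← Units.val_mul, ← Units.val_mul,
    ← Units.val_mul, ← CfsgLib.PGOQuot.isoToSim_coe gi, he, mul_assoc]

/-- A class-preserving similarity moves any two lines in standard position like an element of the Siegel
group. -/
theorem exists_siegel_lines (hm : 3 ≤ m) {d : ↥(simG (plusForm m F))} (hd : d ∈ K0 m F) (μ : Fˣ)
    (hμ : ∀ v, plusForm m F (((d : GL (Fin m ⊕ Fin m) F) : Matrix (Fin m ⊕ Fin m) (Fin m ⊕ Fin m) F) *ᵥ v) =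
      (μ : F) * plusForm m F v) (g : Orth (MQ m F)) :
    ∃ s : Orth (MQ m F), s ∈ siegelGroup (MQ m F) ∧ ∀ (k l : Fin m ⊕ Fin m) (L : Ln (MQ m F)),
      g.1 (eP m F (Pi.single k 1)) ∈ L.1 → g.1 (eP m F (Pi.single l 1)) ∈ L.1 →
      LinearIndependent F ![g.1 (eP m F (Pi.single k 1)), g.1 (eP m F (Pi.single l 1))] →
      (modelSim d μ hμ).mapSub L.1 = L.1.map (s.1 : Vm F m (Fin 0 → F) →ₗ[F] Vm F m (Fin 0 → F)) := by
  obtain ⟨s, hs, hk⟩ := exists_siegel hm hd μ hμ g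
  refine ⟨s, hs, fun k l L h1 h2 hind => ?_⟩
  set T := modelSim d μ hμ
  have hsub : ∀ k, g.1 (eP m F (Pi.single k 1)) ∈ L.1 →
      T.Φ (g.1 (eP m F (Pi.single k 1))) ∈ L.1.map (s.1 : Vm F m (Fin 0 → F) →ₗ[F] Vm F m (Fin 0 → F)) := by
    intro k h
    obtain ⟨c, hc⟩ := hk k
    rw [hc]
    exact Submodule.smul_mem _ _ ⟨_, h, rfl⟩
  rw [(L.2.map s).eq_span (hsub k h1) (hsub l h2) (T.li_map hind),
    L.2.eq_span h1 h2 hind, T.mapSub_span]

end CfsgLib.FieldAutPlus
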